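import Groth.Agent.Lib.Goren.GorenFinLen27
import Groth.Agent.Lib.Goren.InjDim

/-!
# Canonical modules in the Cohen-Macaulay case

`DualPair R E d M K`: the only local cohomology of `M` is `H^d`, `dim M ≤ d`, and `H^d(M) = Hom(K, E)`.
-/

set_option autoImplicit false

universe u

open CategoryTheory IsLocalRing RingTheory.Sequence Pointwise
open Groth.Agent.LocCohLib Groth.Agent.InjHullLib

noncomputable section

namespace Groth.Agent.CanonModLib

variable {R : Type u} [CommRing R] [IsNoetherianRing R] [IsLocalRing R] {E : Type u} [AddCommGroup E] [Module R E]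

variable (R E) in
/-- The Cohen-Macaulay module `M` of dimension `d` has dual `K`. -/
def DualPair (d : ℕ) (M K : Type u) [AddCommGroup M] [Module R M] [AddCommGroup K] [Module R K] : Prop :=
  (∀ i < d, Subsingleton (LocCoh.H (maximalIdeal R) i M)) ∧ Module.supportDim R M ≤ d ∧ Nontrivial M ∧
    Nonempty ((K →ₗ[R] E) ≃ₗ[R] LocCoh.H (maximalIdeal R) d M)

variable {f : ResidueField R →ₗ[R] E} (hf : InjHull.IsInjectiveHull f)
variable {M K : Type u} [AddCommGroup M] [Module R M] [Module.Finite R M] [AddCommGroup K] [Module R K] [Module.Finite R K]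

namespace DualPair

variable {d : ℕ} (P : DualPair R E d M K)

omit [Module.Finite R K] in
include P in
theorem natCast_le_depth : (d : ℕ∞) ≤ LocCoh.depth R M :=
  (GorenLib.natCast_le_depth_iff_H M d).2 P.1

omit [Module.Finite R K] in
include P in
theorem supportDim_eq : Module.supportDim R M = d := by
  haveI := P.2.2.1
  refine le_antisymm P.2.1 (le_trans ?_ DepthLib.depth_le_supportDim)
  exact WithBot.coe_le_coe.2 P.natCast_le_depth

omit [Module.Finite R K] in
include P in
theorem nontrivial_H : Nontrivial (LocCoh.H (maximalIdeal R) d M) :=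
  (nontrivial_and_not_finite d M P.supportDim_eq).1

omit [Module.Finite R K] in
include P in
theorem nontrivial_K : Nontrivial K := by
  haveI := P.nontrivial_H
  obtain ⟨e⟩ := P.2.2.2
  by_contra hK
  rw [not_nontrivial_iff_subsingleton] at hK
  exact not_subsingleton (LocCoh.H (maximalIdeal R) d M) e.symm.toEquiv.subsingleton

omit [Module.Finite R K] in
include P in
theorem supportDim_quot_lt {a : R} (ha : a ∈ maximalIdeal R) (hreg : IsSMulRegular M a) :
    Module.supportDim R (QuotSMulTop a M) < d := by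
  have h := Module.supportDim_quotSMulTop_succ_eq_supportDim hreg ha
  rw [P.supportDim_eq] at h
  revert h
  generalize Module.supportDim R (QuotSMulTop a M) = x
  intro h
  induction x using WithBot.recBotCoe with
  | bot => exact WithBot.bot_lt_coe _
  | coe x =>
    rw [show (1 : WithBot ℕ∞) = ((1 : ℕ∞) : WithBot ℕ∞) from rfl, ← WithBot.coe_add] at h
    change _ = ((d : ℕ∞) : WithBot ℕ∞) at h
    rw [WithBot.coe_inj] at h
    refine WithBot.coe_lt_coe.2 (lt_of_lt_of_eq ?_ h)
    exact ENat.lt_add_one_iff (by intro e; simp [e] at h) |>.2 le_rfl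

omit [Module.Finite R K] in
include P in
theorem smul_H_surjective {a : R} (ha : a ∈ maximalIdeal R) (hreg : IsSMulRegular M a) :
    Function.Surjective (hmap (maximalIdeal R) d (a • (LinearMap.id : M →ₗ[R] M))) := by
  refine hmap_f_surjective (maximalIdeal R) (f := a • (LinearMap.id : M →ₗ[R] M))
    (g := (LinearMap.range (a • (LinearMap.id : M →ₗ[R] M))).mkQ) hreg (Submodule.mkQ_surjective _)
    (LinearMap.exact_map_mkQ_range _) d ?_
  refine subsingleton_of_supportDim_lt _ _ _ ((le_of_eq (Module.supportDim_eq_of_equiv ?_)).trans_lt (P.supportDim_quot_lt ha hreg))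
  exact Submodule.quotEquivOfEq _ _ (by ext; simp [Submodule.mem_smul_pointwise_iff_exists])

include hf P in
theorem isSMulRegular_iff {a : R} (ha : a ∈ maximalIdeal R) : IsSMulRegular M a ↔ IsSMulRegular K a := by
  obtain ⟨e⟩ := P.2.2.2
  constructor
  · intro h
    rw [isSMulRegular_iff_right_eq_zero_of_smul]
    intro x hx
    by_contra hx0
    obtain ⟨φ, hφ⟩ := exists_dual_ne_zero hf hx0
    obtain ⟨z, hz⟩ := P.smul_H_surjective ha h (e φ)
    rw [hmap_smul, hmap_id, LinearMap.smul_apply, LinearMap.id_apply] at hz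
    have hφz : φ = a • e.symm z := e.injective (by rw [map_smul, e.apply_symm_apply]; exact hz.symm)
    exact hφ (by rw [hφz, LinearMap.smul_apply, ← map_smul, hx, map_zero])
  · intro h
    by_contra hM
    haveI := P.2.2.1
    obtain ⟨p, hp, hap⟩ : ∃ p ∈ associatedPrimes R M, a ∈ p := by
      rw [isSMulRegular_iff_right_eq_zero_of_smul] at hM
      push Not at hM
      obtain ⟨x, hx, hx0⟩ := hM
      have : a ∈ {r : R | ∃ x : M, x ≠ 0 ∧ r • x = 0} := ⟨x, hx0, hx⟩
      rw [← biUnion_associatedPrimes_eq_zero_divisors] at this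
      exact Set.mem_iUnion₂.1 this |>.imp fun p ⟨h1, h2⟩ => ⟨h1, h2⟩
    haveI := hp.isPrime
    let N := p • (⊤ : Submodule R M)
    have hdim : Module.supportDim R (M ⧸ N) = d := by
      refine le_antisymm ((Module.supportDim_le_of_surjective N.mkQ N.mkQ_surjective).trans P.2.1) ?_
      refine le_trans ?_ (DepthLib.ringKrullDim_quotient_le_supportDim_quotient
        (DepthLib.mem_support_of_mem_associatedPrimes hp) le_rfl)
      exact (WithBot.coe_le_coe.2 P.natCast_le_depth).trans (DepthLib.depth_le_of_mem_associatedPrimes hp)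
    haveI := (nontrivial_and_not_finite d (M ⧸ N) hdim).1
    obtain ⟨w, hw⟩ := exists_ne (0 : LocCoh.H (maximalIdeal R) d (M ⧸ N))
    obtain ⟨z, rfl⟩ := hmap_g_surjective (maximalIdeal R) N.injective_subtype N.mkQ_surjective
      (LinearMap.exact_subtype_mkQ N) d (subsingleton_of_supportDim_lt _ _ _
        (((Module.supportDim_le_of_injective _ N.injective_subtype).trans P.2.1).trans_lt
          (by exact_mod_cast d.lt_succ_self))) w
    have hb : ∀ x : K, a • x = (a • LinearMap.id : K →ₗ[R] K) x := fun x => rfl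
    obtain ⟨ψ, hψ⟩ := hf.isInjective.out (a • LinearMap.id : K →ₗ[R] K) (fun x y hxy => h hxy) (e.symm z)
    refine hw ?_
    have hz : z = a • e ψ := by
      rw [← map_smul, ← LinearEquiv.symm_apply_eq]
      exact LinearMap.ext fun x => (hψ x).symm.trans (map_smul ψ a x)
    rw [hz, map_smul]
    have h0 : a • (LinearMap.id : (M ⧸ N) →ₗ[R] M ⧸ N) = 0 := LinearMap.ext fun x => by
      obtain ⟨x, rfl⟩ := N.mkQ_surjective x
      exact (Submodule.Quotient.mk_eq_zero N).2 (Submodule.smul_mem_smul hap trivial)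
    have := congrArg (hmap (maximalIdeal R) d) h0
    rw [hmap_smul, hmap_id, ← zero_smul R (LinearMap.id : (M ⧸ N) →ₗ[R] M ⧸ N), hmap_smul, zero_smul] at this
    exact LinearMap.congr_fun this _

include hf P in
theorem quot {a : R} (ha : a ∈ maximalIdeal R) (hreg : IsSMulRegular M a) :
    0 < d ∧ DualPair R E (d - 1) (QuotSMulTop a M) (QuotSMulTop a K) := by
  haveI := P.2.2.1
  haveI hnt : Nontrivial (QuotSMulTop a M) := by
    refine Submodule.Quotient.nontrivial_iff.2 fun h => ?_
    refine DepthLib.smul_top_ne_top (M := M) (I := Ideal.span {a})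
      (fun h' => (maximalIdeal.isMaximal R).ne_top (top_le_iff.1 (h' ▸ (Ideal.span_singleton_le_iff_mem _).2 ha))) ?_
    rw [Submodule.ideal_span_singleton_smul, h]
  have hlt := P.supportDim_quot_lt ha hreg
  obtain ⟨e', rfl⟩ : ∃ e', d = e' + 1 := by
    refine ⟨d - 1, ?_⟩
    rcases Nat.eq_zero_or_pos d with rfl | h0
    · obtain ⟨s, hs⟩ := DepthLib.exists_supportDim_eq_natCast (R := R) (M := QuotSMulTop a M)
      rw [hs] at hlt
      exact absurd hlt (by norm_cast)
    · omega
  refine ⟨Nat.succ_pos _, ?_⟩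
  simp only [Nat.add_sub_cancel]
  let fa : M →ₗ[R] M := a • LinearMap.id
  let g : M →ₗ[R] QuotSMulTop a M := Submodule.mkQ _
  have hfg : Function.Exact fa g := by
    intro x
    refine (Submodule.Quotient.mk_eq_zero _).trans ?_
    rw [Submodule.mem_smul_pointwise_iff_exists]
    exact ⟨fun ⟨y, _, hy⟩ => ⟨y, hy⟩, fun ⟨y, hy⟩ => ⟨y, trivial, hy⟩⟩
  have hg : Function.Surjective g := Submodule.mkQ_surjective _
  have hS := shortExact_mk fa g hreg hg hfg
  refine ⟨fun i hi => ?_, ?_, hnt, ?_⟩
  · refine subsingleton_of_forall_eq 0 fun x => ?_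
    obtain ⟨y, rfl⟩ := (exact_map_δ (maximalIdeal R) i hS x).1 ((P.1 (i + 1) (by omega)).elim _ _)
    exact (congrArg _ ((P.1 i (by omega)).elim y 0)).trans (map_zero _)
  · revert hlt
    generalize Module.supportDim R (QuotSMulTop a M) = x
    intro hlt
    induction x using WithBot.recBotCoe with
    | bot => exact bot_le
    | coe x =>
      refine WithBot.coe_le_coe.2 ?_
      have := WithBot.coe_lt_coe.1 hlt
      rw [Nat.cast_succ] at this
      exact (ENat.lt_add_one_iff (ENat.natCast_ne_top _)).1 this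
  obtain ⟨eK⟩ := P.2.2.2
  let δm : LocCoh.H (maximalIdeal R) e' (QuotSMulTop a M) →ₗ[R] LocCoh.H (maximalIdeal R) (e' + 1) M :=
    δ (maximalIdeal R) e' hS
  have hδ : Function.Injective δm := by
    rw [injective_iff_map_eq_zero]
    intro x hx
    obtain ⟨y, rfl⟩ := (exact_map_δ (maximalIdeal R) e' hS x).1 hx
    exact (congrArg _ ((P.1 e' e'.lt_succ_self).elim y 0)).trans (map_zero _)
  let q : (QuotSMulTop a K →ₗ[R] E) →ₗ[R] LocCoh.H (maximalIdeal R) (e' + 1) M :=
    eK.toLinearMap ∘ₗ LinearMap.lcomp R E (Submodule.mkQ _)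
  have hq : Function.Injective q := fun x y h =>
    LinearMap.ext fun z => by
      obtain ⟨z, rfl⟩ := Submodule.mkQ_surjective _ z
      exact LinearMap.congr_fun (eK.injective h) z
  refine ⟨LinearEquiv.ofInjective q hq ≪≫ₗ LinearEquiv.ofEq _ _ ?_ ≪≫ₗ (LinearEquiv.ofInjective δm hδ).symm⟩
  ext x
  have hfa : ((localCohomology (maximalIdeal R) (e' + 1)).map
      (ShortComplex.moduleCatMk fa g hfg.linearMap_comp_eq_zero).f).hom x = a • x := by
    change hmap (maximalIdeal R) (e' + 1) fa x = _
    rw [hmap_smul, hmap_id]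
    rfl
  constructor
  · rintro ⟨φ, rfl⟩
    refine (exact_δ_map (maximalIdeal R) e' hS _).1 (hfa.trans ?_)
    change a • eK (φ ∘ₗ Submodule.mkQ _) = 0
    rw [← map_smul, show a • (φ ∘ₗ Submodule.mkQ (a • (⊤ : Submodule R K))) = 0 from LinearMap.ext fun z => by
      change a • φ (Submodule.Quotient.mk z) = 0
      rw [← map_smul, ← Submodule.Quotient.mk_smul,
        (Submodule.Quotient.mk_eq_zero _).2 (Submodule.smul_mem_pointwise_smul _ a _ Submodule.mem_top), map_zero], map_zero]
  · intro hx
    have hax : a • x = 0 := hfa.symm.trans ((exact_δ_map (maximalIdeal R) e' hS _).2 hx)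
    have hle : a • (⊤ : Submodule R K) ≤ LinearMap.ker (eK.symm x) := by
      intro z hz
      obtain ⟨z, -, rfl⟩ := (Submodule.mem_smul_pointwise_iff_exists _ _ _).1 hz
      rw [LinearMap.mem_ker, map_smul, ← LinearMap.smul_apply, ← map_smul, hax, map_zero, LinearMap.zero_apply]
    refine ⟨(a • (⊤ : Submodule R K)).liftQ (eK.symm x) hle, ?_⟩
    change eK ((a • (⊤ : Submodule R K)).liftQ (eK.symm x) hle ∘ₗ Submodule.mkQ _) = x
    rw [Submodule.liftQ_mkQ, eK.apply_symm_apply]

omit [Module.Finite R M] [Module.Finite R K] in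
theorem congr {M' K' : Type u} [AddCommGroup M'] [Module R M'] [AddCommGroup K'] [Module R K'] {d : ℕ}
    (eM : M ≃ₗ[R] M') (eK : K ≃ₗ[R] K') (P : DualPair R E d M K) : DualPair R E d M' K' := by
  obtain ⟨h1, h2, h3, ⟨e⟩⟩ := P
  exact ⟨fun i hi => (hcongr (maximalIdeal R) i eM).toEquiv.subsingleton_congr.1 (h1 i hi),
    (Module.supportDim_eq_of_equiv eM).symm.le.trans h2, eM.toEquiv.nontrivial_congr.1 h3,
    ⟨LinearEquiv.congrLeft E R eK.symm ≪≫ₗ e ≪≫ₗ hcongr (maximalIdeal R) d eM⟩⟩

end DualPair

include hf in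
theorem isWeaklyRegular_dualPair : ∀ (as : List R), (∀ a ∈ as, a ∈ maximalIdeal R) →
    ∀ (d : ℕ) (M K : Type u) [AddCommGroup M] [Module R M] [Module.Finite R M] [AddCommGroup K] [Module R K]
      [Module.Finite R K], DualPair R E d M K →
      (IsWeaklyRegular M as ↔ IsWeaklyRegular K as) ∧ (IsWeaklyRegular M as →
        DualPair R E (d - as.length) (M ⧸ (Ideal.ofList as • ⊤ : Submodule R M)) (K ⧸ (Ideal.ofList as • ⊤ : Submodule R K))) := by
  intro as
  induction as with
  | nil =>
    intro _ d M K _ _ _ _ _ _ P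
    refine ⟨⟨fun _ => IsWeaklyRegular.nil R K, fun _ => IsWeaklyRegular.nil R M⟩, fun _ => ?_⟩
    exact P.congr (Submodule.quotEquivOfEqBot _ (by simp)).symm (Submodule.quotEquivOfEqBot _ (by simp)).symm
  | cons a as ih =>
    intro has d M K _ _ _ _ _ _ P
    have ha := has a List.mem_cons_self
    rw [isWeaklyRegular_cons_iff, isWeaklyRegular_cons_iff]
    refine ⟨?_, ?_⟩
    · refine ⟨fun h => ?_, fun h => ?_⟩
      · exact ⟨(P.isSMulRegular_iff hf ha).1 h.1,
          (ih (fun b hb => has b (List.mem_cons_of_mem _ hb)) _ _ _ (P.quot hf ha h.1).2).1.1 h.2⟩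
      · have h1 := (P.isSMulRegular_iff hf ha).2 h.1
        exact ⟨h1, (ih (fun b hb => has b (List.mem_cons_of_mem _ hb)) _ _ _ (P.quot hf ha h1).2).1.2 h.2⟩
    · intro h
      have := ((ih (fun b hb => has b (List.mem_cons_of_mem _ hb)) _ _ _ (P.quot hf ha h.1).2).2 h.2).congr
        (Submodule.quotOfListConsSMulTopEquivQuotSMulTopInner M a as).symm
        (Submodule.quotOfListConsSMulTopEquivQuotSMulTopInner K a as).symm
      rwa [List.length_cons, show d - (as.length + 1) = d - 1 - as.length by omega]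

include hf in
/-- Over a cyclic `M` every endomorphism of `K` is a scalar. -/
theorem exists_eq_smul_id_dualPair : ∀ (d : ℕ) (M K : Type u) [AddCommGroup M] [Module R M] [Module.Finite R M]
    [AddCommGroup K] [Module R K] [Module.Finite R K] (m₀ : M), Submodule.span R {m₀} = ⊤ → DualPair R E d M K →
      (∀ g : K →ₗ[R] K, ∃ r : R, g = r • LinearMap.id) ∧
        ∀ r : R, r • (LinearMap.id : K →ₗ[R] K) = 0 → r • m₀ = 0 := by
  intro d
  induction d with
  | zero =>
    intro M K _ _ _ _ _ _ m₀ hm P
    obtain ⟨e⟩ := P.2.2.2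
    have hcyc : ∀ x : M, ∃ r : R, r • m₀ = x := fun x => Submodule.mem_span_singleton.1 (hm ▸ Submodule.mem_top)
    have hT : LocCoh.IsPowerTorsion (maximalIdeal R) M := by
      have hrad : maximalIdeal R ≤ (Module.annihilator R M).radical := by
        intro x hx
        rw [Ideal.radical_eq_sInf, Ideal.mem_sInf]
        rintro p ⟨hp, hpp⟩
        haveI := hpp
        have h1 : ringKrullDim (R ⧸ p) ≤ 0 := (DepthLib.ringKrullDim_quotient_le_supportDim (M := M) (p := p) (by
          rw [Module.support_eq_zeroLocus, PrimeSpectrum.mem_zeroLocus]; exact hp)).trans P.2.1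
        haveI : Ring.KrullDimLE 0 (R ⧸ p) := Ring.krullDimLE_iff.2 (by exact_mod_cast h1)
        haveI : p.IsMaximal := Ideal.Quotient.maximal_of_isField p Ring.KrullDimLE.isField_of_isDomain
        exact (IsLocalRing.eq_maximalIdeal inferInstance : p = maximalIdeal R).ge hx
      obtain ⟨k, hk⟩ := Ideal.exists_pow_le_of_le_radical_of_fg hrad (IsNoetherian.noetherian _)
      exact fun x => ⟨k, fun r hr => Module.mem_annihilator.1 (hk hr) x⟩
    let e₀ : (K →ₗ[R] E) ≃ₗ[R] M :=
      e ≪≫ₗ LinearEquiv.ofBijective (zeroMap (maximalIdeal R) M) (zeroMap_bijective _ hT)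
    refine ⟨fun g => ?_, fun r hr => ?_⟩
    · obtain ⟨r, hr⟩ := hcyc (e₀ (e₀.symm m₀ ∘ₗ g))
      refine ⟨r, LinearMap.ext fun x => ?_⟩
      by_contra hx
      obtain ⟨φ, hφ⟩ := exists_dual_ne_zero hf (sub_ne_zero.2 hx)
      obtain ⟨c, hc⟩ := hcyc (e₀ φ)
      refine hφ ?_
      have h1 : φ = c • e₀.symm m₀ := by rw [← map_smul, hc, e₀.symm_apply_apply]
      have h2 : e₀.symm m₀ ∘ₗ g = r • e₀.symm m₀ := by rw [← map_smul, hr, e₀.symm_apply_apply]
      rw [h1, map_sub, LinearMap.smul_apply, LinearMap.smul_apply, LinearMap.smul_apply, LinearMap.id_apply,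
        map_smul, sub_eq_zero]
      exact congrArg (c • ·) (LinearMap.congr_fun h2 x)
    · apply e₀.symm.injective
      rw [map_zero, map_smul]
      exact LinearMap.ext fun x => by
        rw [LinearMap.smul_apply, ← map_smul, show r • x = 0 from LinearMap.congr_fun hr x, map_zero]; rfl
  | succ d ih =>
    intro M K _ _ _ _ _ _ m₀ hm P
    haveI := P.2.2.1
    obtain ⟨a, ha, hreg⟩ := DepthLib.exists_isSMulRegular_of_one_le_idealDepth
      (I := maximalIdeal R) (M := M) (DepthLib.smul_top_ne_top (maximalIdeal.isMaximal R).ne_top)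
      (le_trans (by norm_cast; omega) P.natCast_le_depth)
    have hregK := (P.isSMulRegular_iff hf ha).1 hreg
    have hQ : Submodule.span R {(Submodule.Quotient.mk m₀ : QuotSMulTop a M)} = ⊤ := by
      have := congrArg (Submodule.map (Submodule.mkQ (a • (⊤ : Submodule R M)))) hm
      rwa [Submodule.map_span, Set.image_singleton, Submodule.map_top, Submodule.range_mkQ] at this
    obtain ⟨h1, h2⟩ := ih (QuotSMulTop a M) (QuotSMulTop a K) (Submodule.Quotient.mk m₀) hQ (P.quot hf ha hreg).2
    have hdiv : ∀ g : K →ₗ[R] K, (∀ x, g x ∈ a • (⊤ : Submodule R K)) → ∃ g' : K →ₗ[R] K, g = a • g' := by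
      intro g hg
      choose g' hg' using fun x => (Submodule.mem_smul_pointwise_iff_exists _ _ _).1 (hg x)
      refine ⟨{ toFun := g', map_add' := fun x y => hregK ?_, map_smul' := fun r x => hregK ?_ },
        LinearMap.ext fun x => (hg' x).2.symm⟩
      · change a • g' (x + y) = a • (g' x + g' y)
        rw [smul_add, (hg' _).2, (hg' _).2, (hg' _).2, map_add]
      · change a • g' (r • x) = a • r • g' x
        rw [(hg' _).2, smul_comm, (hg' _).2, map_smul]
    have hstep : ∀ g : K →ₗ[R] K, ∃ r : R, ∃ g' : K →ₗ[R] K, g = r • LinearMap.id + a • g' := by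
      intro g
      obtain ⟨r, hr⟩ := h1 (Submodule.mapQ _ _ g (by
        rintro _ ⟨x, -, rfl⟩
        exact ⟨g x, trivial, (map_smul g a x).symm⟩))
      obtain ⟨g', hg'⟩ := hdiv (g - r • LinearMap.id) fun x => by
        rw [← Submodule.Quotient.mk_eq_zero]
        exact (Submodule.Quotient.mk_sub _).trans (sub_eq_zero.2 (LinearMap.congr_fun hr (Submodule.Quotient.mk x)))
      exact ⟨r, g', by rw [← hg']; abel⟩
    refine ⟨?_, ?_⟩
    · let L := Submodule.span R {(LinearMap.id : K →ₗ[R] K)}
      have hL : (⊤ : Submodule R (K →ₗ[R] K)) ≤ L := by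
        refine Submodule.le_of_le_smul_of_le_jacobson_bot (IsNoetherian.noetherian ⊤)
          ((Ideal.span_singleton_le_iff_mem _).2 ha |>.trans (IsLocalRing.maximalIdeal_le_jacobson _)) fun g _ => ?_
        obtain ⟨r, g', rfl⟩ := hstep g
        exact Submodule.add_mem_sup (Submodule.smul_mem _ r (Submodule.mem_span_singleton_self _))
          (Submodule.smul_mem_smul (Ideal.mem_span_singleton_self a) trivial)
      exact fun g => (Submodule.mem_span_singleton.1 (hL (Submodule.mem_top (x := g)))).imp fun r hr => hr.symm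
    · obtain ⟨e⟩ := P.2.2.2
      have hkill : ∀ s : R, s • m₀ = 0 → s • (LinearMap.id : K →ₗ[R] K) = 0 := by
        intro s hs
        have hM : s • (LinearMap.id : M →ₗ[R] M) = 0 := LinearMap.ext fun x => by
          obtain ⟨c, rfl⟩ := Submodule.mem_span_singleton.1 (hm ▸ Submodule.mem_top (x := x))
          exact (smul_comm s c m₀).trans (by rw [hs, smul_zero, LinearMap.zero_apply])
        have hH := congrArg (hmap (maximalIdeal R) (d + 1)) hM
        rw [hmap_smul, hmap_id, ← zero_smul R (LinearMap.id : M →ₗ[R] M), hmap_smul, zero_smul] at hH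
        refine LinearMap.ext fun x => ?_
        by_contra hx
        obtain ⟨φ, hφ⟩ := exists_dual_ne_zero hf hx
        refine hφ ?_
        change φ (s • x) = 0
        rw [map_smul]
        exact LinearMap.congr_fun (e.injective ((map_smul e s φ).trans ((LinearMap.congr_fun hH (e φ)).trans (map_zero e).symm)) : s • φ = 0) x
      let N : Submodule R M :=
        { carrier := {x | ∃ r : R, r • (LinearMap.id : K →ₗ[R] K) = 0 ∧ x = r • m₀}
          zero_mem' := ⟨0, zero_smul _ _, (zero_smul _ _).symm⟩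
          add_mem' := fun {x y} ⟨r, hr, hx⟩ ⟨s, hs, hy⟩ =>
            ⟨r + s, by rw [add_smul, hr, hs, add_zero], by rw [hx, hy, add_smul]⟩
          smul_mem' := fun c x ⟨r, hr, hx⟩ => ⟨c * r, by rw [mul_smul, hr, smul_zero], by rw [hx, mul_smul]⟩ }
      have hN : N ≤ Ideal.span {a} • N := by
        rintro _ ⟨r, hr, rfl⟩
        have h3 := h2 r (LinearMap.ext fun x => by
          obtain ⟨x, rfl⟩ := Submodule.mkQ_surjective _ x
          exact ((Submodule.Quotient.mk_smul _ r x).symm.trans
            (congrArg Submodule.Quotient.mk (LinearMap.congr_fun hr x))).trans (Submodule.Quotient.mk_zero _))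
        rw [← Submodule.Quotient.mk_smul, Submodule.Quotient.mk_eq_zero, Submodule.mem_smul_pointwise_iff_exists] at h3
        obtain ⟨y, -, hy⟩ := h3
        obtain ⟨c, rfl⟩ := Submodule.mem_span_singleton.1 (hm ▸ Submodule.mem_top (x := y))
        have h4 := hkill (r - a * c) (by rw [sub_smul, mul_smul, hy, sub_self])
        rw [sub_smul, hr, zero_sub, neg_eq_zero, mul_smul] at h4
        rw [← hy]
        refine Submodule.smul_mem_smul (Ideal.mem_span_singleton_self a) ⟨c, LinearMap.ext fun x => hregK ?_, rfl⟩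
        exact (LinearMap.congr_fun h4 x).trans (smul_zero a).symm
      have hbot := Submodule.eq_bot_of_le_smul_of_le_jacobson_bot _ N (IsNoetherian.noetherian N) hN
        ((Ideal.span_singleton_le_iff_mem _).2 ha |>.trans (IsLocalRing.maximalIdeal_le_jacobson _))
      exact fun r hr => (Submodule.eq_bot_iff N).1 hbot _ ⟨r, hr, rfl⟩

/-- The pair of a Cohen-Macaulay ring. -/
theorem dualPair_self [LocCoh.IsCohenMacaulayLocalRing R] {n : ℕ} (hn : ringKrullDim R = n)
    (eK : (K →ₗ[R] E) ≃ₗ[R] LocCoh.H (maximalIdeal R) n R) : DualPair R E n R K := by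
  refine ⟨fun i hi => GorenLib.subsingleton_H_lt_depth n ?_ i hi, ?_, inferInstance, ⟨eK⟩⟩
  · have h := LocCoh.IsCohenMacaulayLocalRing.supportDim_eq_depth (R := R)
    rw [Module.supportDim_self_eq_ringKrullDim, hn] at h
    exact le_of_eq (WithBot.coe_injective h)
  · rw [Module.supportDim_self_eq_ringKrullDim, hn]

end Groth.Agent.CanonModLib
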