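import Groth.Agent.Lib.CanonMod.Loc27
import Groth.Agent.Lib.LocCoh.Flat
import Groth.Agent.Lib.CplLocH7.Basic
import Groth.Agent.Lib.FlatDepth.Dim
import Groth.Agent.Lib.Cohen.Structure
import Groth.Agent.Lib.Compl.Dim
import Groth.Agent.S0312
import Groth.Agent.S5158
import Groth.Agent.S0342
import Mathlib.Algebra.Module.FinitePresentation

/-!
# Canonical modules and completion
-/

set_option autoImplicit false

universe u

open CategoryTheory IsLocalRing TensorProduct
open Groth.Agent.LocCohLib Groth.Agent.InjHullLib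

noncomputable section

namespace Groth.Agent.CanonModLib

open CplLocH7

variable {R : Type u} [CommRing R] [IsNoetherianRing R] [IsLocalRing R]

instance flat_cpl27 : Module.Flat R (Cpl R) := AdicCompletion.flat_of_isNoetherian _

/-- Linear maps out of power torsion modules are linear over the completion. -/
theorem map_cpl_smul {X Y : Type u} [AddCommGroup X] [Module R X] [Module (Cpl R) X] [IsScalarTower R (Cpl R) X]
    [AddCommGroup Y] [Module R Y] [Module (Cpl R) Y] [IsScalarTower R (Cpl R) Y] (f : X →ₗ[R] Y)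
    (hX : LocCoh.IsPowerTorsion (maximalIdeal R) X) (c : Cpl R) (x : X) : f (c • x) = c • f x := by
  obtain ⟨n, hn⟩ := hX x
  obtain ⟨a, ha⟩ := exists_sub_mem_pow n c
  rw [maximalIdeal_cpl, ← Ideal.map_pow] at ha
  have key : ∀ {Z : Type u} [AddCommGroup Z] [Module R Z] [Module (Cpl R) Z] [IsScalarTower R (Cpl R) Z] (z : Z),
      (∀ r ∈ maximalIdeal R ^ n, r • z = 0) → c • z = a • z := by
    intro Z _ _ _ _ z hz
    have hker : (maximalIdeal R ^ n).map (algebraMap R (Cpl R)) ≤ LinearMap.ker (LinearMap.toSpanSingleton (Cpl R) Z z) := by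
      rw [Ideal.map_le_iff_le_comap]
      intro r hr
      show algebraMap R (Cpl R) r • z = 0
      rw [algebraMap_smul, hz r hr]
    have h := LinearMap.mem_ker.1 (hker ha)
    rw [LinearMap.toSpanSingleton_apply, sub_smul, algebraMap_smul, sub_eq_zero] at h
    exact h
  rw [key x hn, map_smul, key (f x) fun r hr => by rw [← map_smul, hn r hr, map_zero]]

variable {E : Type u} [AddCommGroup E] [Module R E] {f : ResidueField R →ₗ[R] E} (hf : InjHull.IsInjectiveHull f)
  {K : Type u} [AddCommGroup K] [Module R K] [Module.Finite R K] {n : ℕ}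
  (eK : (K →ₗ[R] E) ≃ₗ[R] LocCoh.H (maximalIdeal R) n R)

/-- Transport of a dual along the completion, for abstract modules. -/
theorem nonempty_cpl_equiv {X H H' : Type u} [AddCommGroup X] [Module R X] [Module (Cpl R) X]
    [IsScalarTower R (Cpl R) X] [AddCommGroup H] [Module R H] [AddCommGroup H'] [Module (Cpl R) H']
    (T : X ≃ₗ[R] H) (hH : LocCoh.IsPowerTorsion (maximalIdeal R) H) (b : Cpl R ⊗[R] H ≃ₗ[Cpl R] H') :
    Nonempty (X ≃ₗ[Cpl R] H') := by
  let U : X ≃ₗ[R] Cpl R ⊗[R] H := T ≪≫ₗ LinearEquiv.ofBijective _ (Groth.Agent.S5158.result R H hH)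
  have hX : LocCoh.IsPowerTorsion (maximalIdeal R) X := fun x =>
    (hH (T x)).imp fun k hk r hr => T.injective (by rw [map_smul, hk r hr, map_zero])
  exact ⟨{ U with map_smul' := fun c x => map_cpl_smul U.toLinearMap hX c x } ≪≫ₗ b⟩

include hf eK in
/-- The completion of a canonical module is canonical. -/
theorem exists_completion_dual :
    ∃ (E' : Type u) (_ : AddCommGroup E') (_ : Module (Cpl R) E') (f' : ResidueField (Cpl R) →ₗ[Cpl R] E'),
      InjHull.IsInjectiveHull f' ∧ Nonempty ((Cpl R ⊗[R] K →ₗ[Cpl R] E') ≃ₗ[Cpl R]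
        LocCoh.H (maximalIdeal (Cpl R)) n (Cpl R)) := by
  obtain ⟨g, hg⟩ := Groth.Agent.S0312.result R (Cpl R) (maximalIdeal_cpl R).symm E f hf
  refine ⟨Cpl R ⊗[R] E, inferInstance, inferInstance, g, hg, ?_⟩
  have hE : LocCoh.IsPowerTorsion (maximalIdeal R) E := isPowerTorsion_hull (m := maximalIdeal R) hf
  let ι : E ≃ₗ[R] Cpl R ⊗[R] E := LinearEquiv.ofBijective _ (Groth.Agent.S5158.result R E hE)
  obtain ⟨b⟩ := nonempty_baseChange_H (Cpl R) (maximalIdeal R) n R
  rw [← maximalIdeal_cpl] at b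
  exact nonempty_cpl_equiv
    (((LinearMap.liftBaseChangeEquiv (R := R) (M := K) (N := Cpl R ⊗[R] E) (Cpl R)).restrictScalars R).symm ≪≫ₗ
      LinearEquiv.congrRight ι.symm ≪≫ₗ eK)
    (isPowerTorsion (maximalIdeal R) n R)
    (b ≪≫ₗ hcongr (maximalIdeal (Cpl R)) n (AlgebraTensorModule.rid R (Cpl R) (Cpl R)))

omit [IsNoetherianRing R] in
theorem exists_minimal_prime_coheight {C : Type u} [CommRing C] (J : Ideal C) {e : ℕ} (he : ringKrullDim (C ⧸ J) = e) :
    ∃ P : Ideal C, P.IsPrime ∧ P ∈ J.minimalPrimes ∧ ringKrullDim (C ⧸ P) = e := by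
  rw [ringKrullDim_quotient] at he
  have hne : Nonempty (PrimeSpectrum.zeroLocus (R := C) (J : Set C)) := by
    by_contra h
    rw [not_nonempty_iff] at h
    rw [Order.krullDim_eq_bot] at he
    exact WithBot.bot_ne_natCast e he
  obtain ⟨l, hl⟩ := (Order.le_krullDim_iff (n := e)).1 he.ge
  obtain ⟨P, hP, hPle⟩ := Ideal.exists_minimalPrimes_le (J := l.head.1.asIdeal) l.head.2
  refine ⟨P, hP.1.1, hP, le_antisymm ?_ ?_⟩
  · rw [ringKrullDim_quotient, ← he]
    exact Order.krullDim_le_of_strictMono (fun x => ⟨x.1, fun a ha => x.2 (hP.1.2 ha)⟩) fun _ _ h => h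
  · rw [ringKrullDim_quotient]
    let l' : LTSeries (PrimeSpectrum.zeroLocus (R := C) (P : Set C)) :=
      ⟨l.length, fun i => ⟨(l i).1, fun a ha => (show l.head.1.asIdeal ≤ (l i).1.asIdeal from
        l.head_le i) (hPle ha)⟩, fun i => l.step i⟩
    exact le_of_eq_of_le (by rw [← hl]) (Order.LTSeries.length_le_krullDim l')

omit [IsNoetherianRing R] in
theorem ringKrullDim_cpl_eq [IsNoetherianRing R] : ringKrullDim (Cpl R) = ringKrullDim R :=
  Compl.ringKrullDim_maximalIdeal_adicCompletion R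

/-- A prime of the completion over `p` preserving height and coheight. -/
theorem exists_prime_over (p : Ideal R) [p.IsPrime] :
    ∃ (P : Ideal (Cpl R)) (_ : P.IsPrime), P.comap (algebraMap R (Cpl R)) = p ∧
      ringKrullDim (Cpl R ⧸ P) = ringKrullDim (R ⧸ p) ∧ P.height = p.height ∧
      P ∈ (p.map (algebraMap R (Cpl R))).minimalPrimes := by
  obtain ⟨e, he⟩ := DepthLib.exists_ringKrullDim_quotient_eq_natCast p (Ideal.IsPrime.ne_top ‹_›)
  have hdim : ringKrullDim (Cpl R ⧸ p.map (algebraMap R (Cpl R))) = e := by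
    haveI : Nontrivial (R ⧸ p) := Ideal.Quotient.nontrivial_iff.2 (Ideal.IsPrime.ne_top ‹_›)
    have h := FlatDepth.supportDim_tensor (R := R) (S := Cpl R) (N := Cpl R) (R ⧸ p)
    rw [Module.supportDim_eq_of_equiv (FlatDepth.tensorQuotEquiv (Cpl R) p ≪≫ₗ
        Submodule.quotEquivOfEq _ (p.map (algebraMap R (Cpl R))) (by simp)),
      Module.supportDim_eq_of_equiv (FlatDepth.tensorQuotEquiv (Cpl R) (maximalIdeal R) ≪≫ₗ
        Submodule.quotEquivOfEq _ (maximalIdeal (Cpl R)) (by simp [← maximalIdeal_cpl])),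
      Module.supportDim_quotient_eq_ringKrullDim, Module.supportDim_quotient_eq_ringKrullDim,
      Module.supportDim_quotient_eq_ringKrullDim, he] at h
    letI : Field (Cpl R ⧸ maximalIdeal (Cpl R)) := Ideal.Quotient.field _
    rw [h, ringKrullDim_eq_zero_of_field, add_zero]
  obtain ⟨P, hP, hmin, hPe⟩ := exists_minimal_prime_coheight _ hdim
  haveI := hP
  have hge : p ≤ P.comap (algebraMap R (Cpl R)) := Ideal.map_le_iff_le_comap.1 hmin.1.2
  have hcomap : P.comap (algebraMap R (Cpl R)) = p := by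
    haveI : P.LiesOver (P.comap (algebraMap R (Cpl R))) := ⟨rfl⟩
    obtain ⟨P', hle, hP', hover⟩ := Ideal.exists_ideal_le_liesOver_of_le (p := p) P hge
    have h1 : P ≤ P' := hmin.2 ⟨hP', Ideal.map_le_iff_le_comap.2 hover.over.le⟩ hle
    exact le_antisymm ((Ideal.comap_mono h1).trans hover.over.ge) hge
  haveI : P.LiesOver p := ⟨hcomap.symm⟩
  refine ⟨P, hP, hcomap, hPe.trans he.symm, ?_, hmin⟩
  rw [Ideal.height_eq_height_add_of_liesOver_of_hasGoingDown p P]
  suffices h : (P.map (Ideal.Quotient.mk (p.map (algebraMap R (Cpl R))))).height = 0 by rw [h, add_zero]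
  haveI : (P.map (Ideal.Quotient.mk (p.map (algebraMap R (Cpl R))))).IsPrime :=
    Ideal.map_isPrime_of_surjective Ideal.Quotient.mk_surjective (by rw [Ideal.mk_ker]; exact hmin.1.2)
  rw [Ideal.height_eq_zero_iff]
  refine ⟨⟨inferInstance, bot_le⟩, fun Q hQ hQle => ?_⟩
  haveI := hQ.1
  have h1 : Q.comap (Ideal.Quotient.mk (p.map (algebraMap R (Cpl R)))) ≤ P := by
    refine (Ideal.comap_mono hQle).trans ?_
    rw [Ideal.comap_map_of_surjective _ Ideal.Quotient.mk_surjective, ← RingHom.ker_eq_comap_bot, Ideal.mk_ker]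
    exact sup_le le_rfl hmin.1.2
  have h2 := hmin.2 ⟨inferInstance, fun x hx => by
    rw [Ideal.mem_comap, Ideal.Quotient.eq_zero_iff_mem.2 hx]; exact zero_mem _⟩ h1
  exact Ideal.map_le_iff_le_comap.2 h2

theorem exists_gorenstein_surjection :
    ∃ (S : Type u) (_ : CommRing S) (_ : LocCoh.IsGorensteinLocalRing S) (_ : Algebra S (Cpl R)),
      Function.Surjective (algebraMap S (Cpl R)) := by
  haveI : IsAdicComplete (maximalIdeal (Cpl R)) (Cpl R) := inferInstance
  obtain ⟨S, _, _, g, hg⟩ := Cohen.exists_regular_surjection (Cpl R)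
  exact ⟨S, inferInstance, Groth.Agent.S0342.result S, g.toAlgebra, hg⟩

include hf eK in
/-- The completed canonical module with the structure coming from a Gorenstein cover. -/
theorem exists_completion_ext (hn : ringKrullDim R = n) :
    ∃ (S : Type u) (_ : CommRing S) (_ : LocCoh.IsGorensteinLocalRing S) (_ : Algebra S (Cpl R)) (N : ℕ),
      Function.Surjective (algebraMap S (Cpl R)) ∧ ringKrullDim S = N ∧ n ≤ N ∧
      Nonempty ((Cpl R ⊗[R] K) ≃ₗ[S] Abelian.Ext (ModuleCat.of S (Cpl R)) (ModuleCat.of S S) (N - n)) := by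
  obtain ⟨S, _, _, _, hs⟩ := exists_gorenstein_surjection (R := R)
  obtain ⟨E', _, _, f', hf', ⟨e'⟩⟩ := exists_completion_dual hf eK
  obtain ⟨N, hN⟩ := RegLoc.exists_dim_eq_nat (R := S)
  have hnN : n ≤ N := by
    have := ringKrullDim_le_of_surjective _ hs
    rw [ringKrullDim_cpl_eq, hn, hN] at this
    exact_mod_cast this
  exact ⟨S, inferInstance, inferInstance, inferInstance, N, hs, hN, hnN,
    nonempty_equiv_ext hs hf' hN hnN _ e'⟩

include hf eK in
/-- Support of a canonical module. -/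
theorem mem_support_canonMod_iff (hn : ringKrullDim R = n) (p : Ideal R) [hp : p.IsPrime] :
    (⟨p, hp⟩ : PrimeSpectrum R) ∈ Module.support R K ↔ (p.height : WithBot ℕ∞) + ringKrullDim (R ⧸ p) = n := by
  obtain ⟨S, _, _, _, N, hs, hN, hnN, ⟨eX⟩⟩ := exists_completion_ext hf eK hn
  obtain ⟨P, hP, hcomap, hdim, hht, -⟩ := exists_prime_over p
  haveI := hP
  have h := support_iff hs hN (ringKrullDim_cpl_eq.trans hn) hnN _ eX P
  rw [FlatDepth.mem_support_tensor_iff, hht, hdim] at h
  rw [← h]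
  have hc : PrimeSpectrum.comap (algebraMap R (Cpl R)) ⟨P, hP⟩ = ⟨p, hp⟩ := PrimeSpectrum.ext hcomap
  rw [hc]
  refine ⟨fun h => ⟨?_, h⟩, fun h => h.2⟩
  rw [Module.support_eq_zeroLocus, PrimeSpectrum.mem_zeroLocus]
  intro c hc
  have h1 := Module.mem_annihilator.1 hc 1
  rw [smul_eq_mul, mul_one] at h1
  exact h1 ▸ P.zero_mem

end Groth.Agent.CanonModLib
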