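import Groth.Agent.Lib.CanonMod.TopDual27
import Groth.Agent.Lib.Goren.GorenQuot27
import Groth.Agent.Lib.Cohen.Structure
import Groth.Agent.S0342

/-!
# The dimension of duals of local cohomology over complete rings
-/

set_option autoImplicit false

universe u

open CategoryTheory IsLocalRing
open Groth.Agent.LocCohLib Groth.Agent.InjHullLib

noncomputable section

namespace Groth.Agent.CanonModLib

variable {R : Type u} [CommRing R] [IsNoetherianRing R] [IsLocalRing R]
  {E : Type u} [AddCommGroup E] [Module R E] {f : ResidueField R →ₗ[R] E} (hf : InjHull.IsInjectiveHull f)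
  (M : Type u) [AddCommGroup M] [Module R M] [Module.Finite R M]

include hf in
theorem ringKrullDim_quotient_le_of_annihilator_dual {S : Type u} [CommRing S] [LocCoh.IsGorensteinLocalRing S]
    [Algebra S R] (hs : Function.Surjective (algebraMap S R)) (i : ℕ) (p : Ideal R) [p.IsPrime]
    (hp : Module.annihilator R (LocCoh.H (maximalIdeal R) i M →ₗ[R] E) ≤ p) :
    ringKrullDim (R ⧸ p) ≤ i := by
  letI : Module S M := Module.compHom M (algebraMap S R)
  haveI : IsScalarTower S R M := IsScalarTower.of_algebraMap_smul fun _ _ => rfl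
  haveI : Module.Finite S R := Module.Finite.of_surjective (Algebra.linearMap S R) hs
  haveI : Module.Finite S M := Module.Finite.trans R M
  rw [← annihilator_dual hf] at hp
  obtain ⟨N, hN⟩ := RegLoc.exists_dim_eq_nat (R := S)
  obtain ⟨φ, hφ⟩ := exists_restrictScalars_addEquiv R (maximalIdeal S) i M
  rw [← GorenLib.map_maximalIdeal_eq hs] at hp
  let P := p.comap (algebraMap S R)
  obtain ⟨e, he⟩ := DepthLib.exists_ringKrullDim_quotient_eq_natCast p (Ideal.IsPrime.ne_top ‹_›)
  obtain ⟨hP, hhP⟩ := GorenLib.exists_height_eq P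
  have hsum : N = e + hP := GorenLib.height_add_dim hN P ((ringKrullDim_eq_of_ringEquiv (RingEquiv.ofBijective
    (Ideal.quotientMap p (algebraMap S R) le_rfl) ⟨Ideal.quotientMap_injective, Ideal.quotientMap_surjective hs⟩)).trans he) hhP
  have hann : Module.annihilator S (LocCoh.H (maximalIdeal S) i M) ≤ P := fun a ha => hp (Module.mem_annihilator.2 fun x =>
    φ.injective (by rw [hφ, Module.mem_annihilator.1 ha, map_zero]))
  have hiN : i ≤ N := by
    by_contra h
    haveI := cdLE_of_ringKrullDim_le (maximalIdeal S) hN.le M i (by omega)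
    rw [Module.annihilator_eq_top_iff.2 inferInstance] at hann
    exact Ideal.IsPrime.ne_top (I := P) inferInstance (top_le_iff.1 hann)
  obtain ⟨ES, _, _, fS, hfS⟩ := exists_injective_hull S (ResidueField S)
  obtain ⟨D⟩ := GorenLib.exists_dualityData hN hfS
  obtain ⟨d⟩ := D.duality (N - i) M (Nat.sub_le _ _)
  rw [Nat.sub_sub_self hiN] at d
  rw [← d.annihilator_eq, ← annihilator_dual hfS] at hann
  have hsupp : (⟨P, inferInstance⟩ : PrimeSpectrum S) ∈
      Module.support S (Abelian.Ext (ModuleCat.of S M) (ModuleCat.of S S) (N - i)) := by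
    rw [Module.support_eq_zeroLocus, PrimeSpectrum.mem_zeroLocus]; exact hann
  rw [he]
  by_contra hlt
  have hlt' : i < e := by
    by_contra h
    exact hlt (by exact_mod_cast Nat.le_of_not_lt h)
  exact Module.notMem_support_iff'.2 ((GorenLib.locally_zero_ext_iff P hhP M (N - i)).2 fun i' hi' => absurd hi' (by omega)) hsupp

include hf in
theorem supportDim_dual_H_le [IsAdicComplete (maximalIdeal R) R] (i : ℕ)
    [Module.Finite R (LocCoh.H (maximalIdeal R) i M →ₗ[R] E)] :
    Module.supportDim R (LocCoh.H (maximalIdeal R) i M →ₗ[R] E) ≤ i := by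
  obtain ⟨S, _, _, g, hg⟩ := Cohen.exists_regular_surjection R
  haveI := Groth.Agent.S0342.result S
  letI := g.toAlgebra
  refine iSup_le fun l => ?_
  have h1 : ringKrullDim (R ⧸ l.head.1.asIdeal) ≤ i :=
    ringKrullDim_quotient_le_of_annihilator_dual hf M (S := S) hg i _ (Module.mem_support_iff_of_finite.1 l.head.2)
  refine le_trans ?_ h1
  rw [ringKrullDim_quotient]
  let l' : LTSeries (PrimeSpectrum.zeroLocus (R := R) (l.head.1.asIdeal : Set R)) :=
    ⟨l.length, fun j => ⟨(l j).1, show l.head.1.asIdeal ≤ (l j).1.asIdeal from l.head_le j⟩, fun j => l.step j⟩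
  exact Order.LTSeries.length_le_krullDim l'

end Groth.Agent.CanonModLib
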