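import Groth.Agent.Lib.LocCoh.Nonvanish
import Groth.Agent.Lib.LocCoh.Seq
import Groth.Agent.Lib.InjHull.Matlis
import Mathlib.RingTheory.Ideal.KrullsHeightTheorem
import Mathlib.RingTheory.KrullDimension.Module
import Mathlib.RingTheory.Ideal.AssociatedPrime.Localization
import Mathlib.RingTheory.Regular.RegularSequence

/-!
# Top local cohomology and the canonical module: elementary properties
-/

universe u

open CategoryTheory Groth.Agent.InjHullLib Groth.Agent.LocCohLib IsLocalRing

noncomputable section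

namespace Groth.Agent.CanonModLib

variable {R : Type u} [CommRing R] [IsNoetherianRing R] [IsLocalRing R]

/-- `dim R/J ≤ #s` when `m ⊆ √(J + (s))`. -/
theorem ringKrullDim_quotient_le_card (J : Ideal R) (hJ : J ≠ ⊤) (s : Finset R)
    (hs : ∀ x ∈ s, x ∈ maximalIdeal R)
    (h : maximalIdeal R ≤ (J ⊔ Ideal.span (s : Set R)).radical) :
    ringKrullDim (R ⧸ J) ≤ s.card := by
  classical
  have : Nontrivial (R ⧸ J) := Ideal.Quotient.nontrivial_iff.2 hJ
  have : IsLocalRing (R ⧸ J) := IsLocalRing.of_surjective' _ Ideal.Quotient.mk_surjective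
  let q := Ideal.Quotient.mk J
  let t := s.image q
  have hsub : (t : Set (R ⧸ J)) ⊆ maximalIdeal (R ⧸ J) := by
    intro y hy
    obtain ⟨x, hx, rfl⟩ := Finset.mem_image.1 hy
    rw [← IsLocalRing.map_maximalIdeal_of_surjective q Ideal.Quotient.mk_surjective]
    exact Ideal.mem_map_of_mem _ (hs x hx)
  have h0 : ringKrullDim ((R ⧸ J) ⧸ Ideal.span (t : Set (R ⧸ J))) ≤ 0 := by
    have hall : ∀ P : PrimeSpectrum ((R ⧸ J) ⧸ Ideal.span (t : Set (R ⧸ J))),
        (P.asIdeal.comap (Ideal.Quotient.mk _)) = maximalIdeal (R ⧸ J) := fun P => by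
      refine le_antisymm (le_maximalIdeal (Ideal.IsPrime.ne_top inferInstance)) ?_
      rw [← IsLocalRing.map_maximalIdeal_of_surjective q Ideal.Quotient.mk_surjective]
      refine Ideal.map_le_iff_le_comap.2 (h.trans ((Ideal.IsPrime.radical_le_iff inferInstance).2 ?_))
      refine sup_le (fun x hx => ?_) (Ideal.span_le.2 fun x hx => ?_)
      · simp [q, Ideal.Quotient.eq_zero_iff_mem.2 hx]
      · change Ideal.Quotient.mk _ (q x) ∈ P.asIdeal
        rw [Ideal.Quotient.eq_zero_iff_mem.2 (Ideal.subset_span (Finset.mem_image_of_mem q hx))]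
        exact zero_mem _
    have : Subsingleton (PrimeSpectrum ((R ⧸ J) ⧸ Ideal.span (t : Set (R ⧸ J)))) :=
      ⟨fun P Q => PrimeSpectrum.ext (Ideal.comap_injective_of_surjective _ Ideal.Quotient.mk_surjective
        ((hall P).trans (hall Q).symm))⟩
    exact Order.krullDim_nonpos_of_subsingleton
  have h1 := Ideal.height_le_ringKrullDim_quotient_add_encard (p := maximalIdeal (R ⧸ J)) _ hsub
  rw [IsLocalRing.maximalIdeal_height_eq_ringKrullDim, Set.encard_coe_eq_coe_finsetCard] at h1
  refine h1.trans ?_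
  calc ringKrullDim ((R ⧸ J) ⧸ Ideal.span (t : Set (R ⧸ J))) + ((t.card : ℕ∞) : WithBot ℕ∞)
      ≤ 0 + ((s.card : ℕ∞) : WithBot ℕ∞) :=
        add_le_add h0 (WithBot.coe_le_coe.2 (by exact_mod_cast Finset.card_image_le))
    _ = _ := zero_add _

omit [IsLocalRing R] [IsNoetherianRing R] in
theorem supportDim_le_of_annihilated {N : Type u} [AddCommGroup N] [Module R N] (J : Ideal R)
    (h : ∀ a ∈ J, ∀ x : N, a • x = 0) : Module.supportDim R N ≤ ringKrullDim (R ⧸ J) := by
  rw [← Module.supportDim_quotient_eq_ringKrullDim]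
  refine Order.krullDim_le_of_strictMono (f := fun p => ⟨p.1, ?_⟩) fun a b hab => hab
  rw [Module.support_eq_zeroLocus (M := R ⧸ J), Ideal.annihilator_quotient]
  exact fun a ha => (Module.mem_support_iff_exists_annihilator.1 p.2).elim fun z hz =>
    hz ((Submodule.mem_annihilator_span_singleton z a).2 (h a ha z))

omit [IsLocalRing R] in
theorem smul_H_surjective {I : Ideal R} {k : ℕ} {N : Type u} [AddCommGroup N] [Module R N]
    (hN : Module.supportDim R N ≤ k) (b : R)
    (hb : Module.supportDim R (N ⧸ LinearMap.range (b • (LinearMap.id : N →ₗ[R] N))) < k) :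
    Function.Surjective fun x : LocCoh.H I k N => b • x := by
  let f : N →ₗ[R] N := b • LinearMap.id
  have hk : k < k + 1 := k.lt_succ_self
  have h1 : Function.Surjective (hmap I k f.rangeRestrict) := by
    refine hmap_g_surjective I (LinearMap.ker f).injective_subtype f.surjective_rangeRestrict
      (by rw [LinearMap.exact_iff, LinearMap.ker_rangeRestrict, Submodule.range_subtype]) k
      (subsingleton_of_supportDim_lt I _ _ ?_)
    exact ((Module.supportDim_le_of_injective _ (LinearMap.ker f).injective_subtype).trans hN).trans_lt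
      (by exact_mod_cast hk)
  have h2 : Function.Surjective (hmap I k (LinearMap.range f).subtype) :=
    hmap_f_surjective I (LinearMap.range f).injective_subtype (LinearMap.range f).mkQ_surjective
      (LinearMap.exact_subtype_mkQ _) k (subsingleton_of_supportDim_lt I _ _ hb)
  intro x
  obtain ⟨y, rfl⟩ := h2 x
  obtain ⟨z, rfl⟩ := h1 y
  refine ⟨z, ?_⟩
  rw [← LinearMap.comp_apply, ← hmap_comp,
    show (LinearMap.range f).subtype ∘ₗ f.rangeRestrict = f from LinearMap.ext fun _ => rfl]
  change b • z = hmap I k (b • LinearMap.id) z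
  rw [hmap_smul, hmap_id]
  rfl

omit [IsLocalRing R] [IsNoetherianRing R] in
theorem smul_mem_range_smul (b : R) (N : Type u) [AddCommGroup N] [Module R N]
    (z : N ⧸ LinearMap.range (b • (LinearMap.id : N →ₗ[R] N))) : b • z = 0 := by
  obtain ⟨z, rfl⟩ := Submodule.Quotient.mk_surjective _ z
  rw [← Submodule.Quotient.mk_smul, Submodule.Quotient.mk_eq_zero]
  exact ⟨z, rfl⟩

omit [IsLocalRing R] [IsNoetherianRing R] in
theorem supportDim_coker_smul_le (b : R) (N : Type u) [AddCommGroup N] [Module R N] :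
    Module.supportDim R (N ⧸ LinearMap.range (b • (LinearMap.id : N →ₗ[R] N))) ≤
      ringKrullDim (R ⧸ Ideal.span {b}) :=
  supportDim_le_of_annihilated _ fun a ha z => by
    obtain ⟨c, rfl⟩ := Ideal.mem_span_singleton.1 ha
    rw [mul_comm, mul_smul]
    exact (congrArg (c • ·) (smul_mem_range_smul b N z)).trans (smul_zero c)

omit [IsLocalRing R] [IsNoetherianRing R] in
theorem supportDim_le_natCast {n : ℕ} (hn : ringKrullDim R = n) (N : Type u) [AddCommGroup N]
    [Module R N] : Module.supportDim R N ≤ n :=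
  (Module.supportDim_le_ringKrullDim R N).trans hn.le

theorem length_le_coheight_head {α : Type u} [Preorder α] {s : Set α} (l : LTSeries s) :
    (l.length : ℕ∞) ≤ Order.coheight l.head.1 :=
  Order.length_le_coheight (p := l.map Subtype.val (fun _ _ h => h)) (le_of_eq (LTSeries.head_map l _ _).symm)

omit [IsLocalRing R] in
/-- An ideal of dimension `< n` containing all of them, when `a` cuts the dimension. -/
theorem exists_small_ideal {n : ℕ} (hn0 : 0 < n) (a : R) (ha : ringKrullDim (R ⧸ Ideal.span {a}) < n) :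
    ∃ u : Ideal R, Module.supportDim R u < n ∧ IsSMulRegular (R ⧸ u) a := by
  obtain ⟨u, hu, hmax⟩ := exists_maximal_of_wellFoundedGT (fun b : Ideal R => Module.supportDim R b < n)
    ⟨⊥, by rw [Module.supportDim_eq_bot_of_subsingleton]; exact WithBot.bot_lt_coe _⟩
  refine ⟨u, hu, ?_⟩
  rw [isSMulRegular_iff_right_eq_zero_of_smul]
  intro z hz
  obtain ⟨z, rfl⟩ := Ideal.Quotient.mk_surjective z
  let w := u ⊔ Ideal.span {z}
  have hle : u ≤ w := le_sup_left
  let i : ↥u →ₗ[R] ↥w := Submodule.inclusion hle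
  have hq : ∀ (x : ↥w ⧸ LinearMap.range i), a • x = 0 := fun x => by
    obtain ⟨⟨x, hx⟩, rfl⟩ := Submodule.Quotient.mk_surjective _ x
    obtain ⟨y, hy, v, hv, rfl⟩ := Submodule.mem_sup.1 hx
    obtain ⟨c, rfl⟩ := Ideal.mem_span_singleton.1 hv
    rw [← Submodule.Quotient.mk_smul, Submodule.Quotient.mk_eq_zero]
    refine ⟨⟨a * (y + z * c), ?_⟩, rfl⟩
    rw [mul_add, ← mul_assoc]
    refine u.add_mem (u.mul_mem_left a hy) (u.mul_mem_right c ?_)
    exact Ideal.Quotient.eq_zero_iff_mem.1 hz
  have hdim : Module.supportDim R ↥w < n := by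
    have hQ : Module.supportDim R (↥w ⧸ LinearMap.range i) < n := lt_of_le_of_lt
      (supportDim_le_of_annihilated _ fun c hc x => by
        obtain ⟨d, rfl⟩ := Ideal.mem_span_singleton.1 hc
        rw [mul_comm, mul_smul, hq, smul_zero]) ha
    have hlt : ∀ p ∈ Module.support R ↥w, (Order.coheight p : WithBot ℕ∞) < n := fun p hp => by
      rw [Module.support_of_exact (f := i) (g := (LinearMap.range i).mkQ)
        i.exact_map_mkQ_range (Submodule.inclusion_injective hle) (Submodule.mkQ_surjective _)] at hp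
      rcases hp with hp | hp
      · exact (coheight_le_supportDim hp).trans_lt hu
      · exact (coheight_le_supportDim hp).trans_lt hQ
    have hle' : Module.supportDim R ↥w ≤ ((n - 1 : ℕ) : WithBot ℕ∞) := by
      refine iSup_le fun l => ?_
      have h1 := hlt l.head.1 l.head.2
      have h2 : (l.length : WithBot ℕ∞) ≤ Order.coheight l.head.1 := by
        have : (l.length : ℕ∞) ≤ Order.coheight l.head.1 :=
          length_le_coheight_head l
        exact_mod_cast this
      have h3 := lt_of_le_of_lt h2 h1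
      have h4 : l.length < n := by exact_mod_cast h3
      exact_mod_cast Nat.le_sub_one_of_lt h4
    exact hle'.trans_lt (by exact_mod_cast Nat.sub_lt hn0 Nat.one_pos)
  exact Ideal.Quotient.eq_zero_iff_mem.2 (hmax hdim hle ((le_sup_right : Ideal.span {z} ≤ w) (Ideal.mem_span_singleton_self z)))

variable {n : ℕ} (hn : ringKrullDim R = n) (hn0 : 0 < n)

include hn in
theorem smul_H_top_surjective (a : R) (ha : ringKrullDim (R ⧸ Ideal.span {a}) < n) (N : Type u)
    [AddCommGroup N] [Module R N] :
    Function.Surjective fun x : LocCoh.H (maximalIdeal R) n N => a • x :=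
  smul_H_surjective (supportDim_le_natCast hn N) a ((supportDim_coker_smul_le a N).trans_lt ha)

include hn hn0 in
/-- Dividing by `b` inside `(0 : a)` in top local cohomology. -/
theorem exists_smul_eq_in_torsion (a b : R) (ha : ringKrullDim (R ⧸ Ideal.span {a}) ≤ ((n - 1 : ℕ) : WithBot ℕ∞))
    (hb : ringKrullDim (R ⧸ Ideal.span ({a, b} : Set R)) < ((n - 1 : ℕ) : WithBot ℕ∞))
    (z : LocCoh.H (maximalIdeal R) n R) (hz : a • z = 0) :
    ∃ w, a • w = 0 ∧ b • w = z := by
  obtain ⟨u, hu, hreg⟩ := exists_small_ideal hn0 a (ha.trans_lt (by exact_mod_cast Nat.sub_lt hn0 Nat.one_pos))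
  obtain ⟨m, rfl⟩ : ∃ m, n = m + 1 := ⟨n - 1, by omega⟩
  simp only [Nat.add_sub_cancel] at ha hb
  let I := maximalIdeal R
  let π : R →ₗ[R] R ⧸ u := Submodule.mkQ u
  have hbij : Function.Bijective (hmap I (m + 1) π) := by
    refine ⟨?_, hmap_g_surjective I u.injective_subtype u.mkQ_surjective (LinearMap.exact_subtype_mkQ u)
      (m + 1) (subsingleton_of_supportDim_lt I _ _ ((supportDim_le_natCast hn _).trans_lt
        (by exact_mod_cast (m + 1).lt_succ_self)))⟩
    rw [injective_iff_map_eq_zero]
    intro x hx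
    obtain ⟨y, rfl⟩ := (exact_map_map I (m + 1) (shortExact_mk u.subtype π u.injective_subtype
      u.mkQ_surjective (LinearMap.exact_subtype_mkQ u)) x).1 hx
    exact (congrArg _ ((subsingleton_of_supportDim_lt I u (m + 1) hu).elim y 0)).trans (map_zero _)
  let f : (R ⧸ u) →ₗ[R] R ⧸ u := a • LinearMap.id
  let Q := (R ⧸ u) ⧸ LinearMap.range f
  have hS := shortExact_mk f (LinearMap.range f).mkQ hreg (Submodule.mkQ_surjective _)
    f.exact_map_mkQ_range
  have hkill : hmap I (m + 1) f (hmap I (m + 1) π z) = 0 := by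
    rw [show f = a • LinearMap.id from rfl, hmap_smul, hmap_id, LinearMap.smul_apply,
      LinearMap.id_apply, ← map_smul, hz, map_zero]
  obtain ⟨y, hy⟩ := (exact_δ_map I m hS (hmap I (m + 1) π z)).1 hkill
  have hQ : Module.supportDim R Q ≤ m := (supportDim_coker_smul_le a (R ⧸ u)).trans ha
  have hQb : Module.supportDim R (Q ⧸ LinearMap.range (b • (LinearMap.id : Q →ₗ[R] Q))) < m := by
    refine lt_of_le_of_lt (supportDim_le_of_annihilated _ fun c hc x => ?_) hb
    refine Submodule.span_induction (p := fun c _ => c • x = 0) ?_ (zero_smul R x)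
      (fun c d _ _ h1 h2 => by rw [add_smul, h1, h2, add_zero])
      (fun c d _ h1 => by rw [smul_eq_mul, mul_smul, h1, smul_zero]) hc
    intro c hc
    rcases hc with rfl | hc
    · obtain ⟨x, rfl⟩ := Submodule.Quotient.mk_surjective _ x
      rw [← Submodule.Quotient.mk_smul, smul_mem_range_smul, Submodule.Quotient.mk_zero]
    · rw [Set.mem_singleton_iff] at hc
      subst hc
      exact smul_mem_range_smul c Q x
  obtain ⟨y', hy'⟩ := smul_H_surjective (I := I) hQ b hQb y
  obtain ⟨w, hw⟩ := hbij.2 (δ I m hS y')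
  refine ⟨w, hbij.1 ?_, hbij.1 ?_⟩
  · rw [map_smul, hw, map_zero]
    have h1 := (exact_δ_map I m hS (δ I m hS y')).2 ⟨y', rfl⟩
    change hmap I (m + 1) (a • LinearMap.id) (δ I m hS y') = 0 at h1
    rw [hmap_smul, hmap_id] at h1
    exact h1
  · rw [map_smul, hw, ← hy, ← hy']
    exact (map_smul (δ I m hS) b y').symm

variable {E : Type u} [AddCommGroup E] [Module R E] {f : ResidueField R →ₗ[R] E}
  (hf : InjHull.IsInjectiveHull f) {K : Type u} [AddCommGroup K] [Module R K]
  (eK : (K →ₗ[R] E) ≃ₗ[R] LocCoh.H (maximalIdeal R) n R)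

include hn hf eK in
theorem isSMulRegular (a : R) (ha : ringKrullDim (R ⧸ Ideal.span {a}) < n) : IsSMulRegular K a := by
  rw [isSMulRegular_iff_right_eq_zero_of_smul]
  intro x hx
  by_contra hx0
  obtain ⟨φ, hφ⟩ := exists_dual_ne_zero hf hx0
  obtain ⟨z, hz⟩ := smul_H_top_surjective hn a ha R (eK φ)
  refine hφ ?_
  have h : φ = a • eK.symm z := eK.injective (by rw [map_smul, eK.apply_symm_apply]; exact hz.symm)
  rw [h, LinearMap.smul_apply, ← map_smul, hx, map_zero]

include hn hn0 hf eK in
theorem isSMulRegular_quotient (a b : R)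
    (ha : ringKrullDim (R ⧸ Ideal.span {a}) ≤ ((n - 1 : ℕ) : WithBot ℕ∞))
    (hb : ringKrullDim (R ⧸ Ideal.span ({a, b} : Set R)) < ((n - 1 : ℕ) : WithBot ℕ∞)) :
    IsSMulRegular (K ⧸ LinearMap.range (a • (LinearMap.id : K →ₗ[R] K))) b := by
  rw [isSMulRegular_iff_right_eq_zero_of_smul]
  intro y hy
  by_contra hy0
  obtain ⟨φ, hφ⟩ := exists_dual_ne_zero hf hy0
  let Φ := φ ∘ₗ (LinearMap.range (a • (LinearMap.id : K →ₗ[R] K))).mkQ
  have hΦ : a • eK Φ = 0 := by
    rw [← map_smul, show a • Φ = 0 from LinearMap.ext fun x => by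
      change a • φ (Submodule.Quotient.mk x) = 0
      rw [← map_smul, smul_mem_range_smul, map_zero], map_zero]
  obtain ⟨w, hw, hw'⟩ := exists_smul_eq_in_torsion hn hn0 a b ha hb _ hΦ
  let Ψ := eK.symm w
  have hΨ : LinearMap.range (a • (LinearMap.id : K →ₗ[R] K)) ≤ LinearMap.ker Ψ := by
    rintro _ ⟨x, rfl⟩
    rw [LinearMap.mem_ker, LinearMap.smul_apply, LinearMap.id_apply, map_smul]
    change (a • eK.symm w) x = 0
    rw [← map_smul, hw, map_zero, LinearMap.zero_apply]
  refine hφ ?_
  obtain ⟨x, rfl⟩ := Submodule.Quotient.mk_surjective _ y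
  have h1 : Φ = b • Ψ := eK.injective (by rw [map_smul, eK.apply_symm_apply]; exact hw'.symm)
  have h2 : φ (Submodule.Quotient.mk x) = b • Ψ x := LinearMap.congr_fun h1 x
  rw [h2, ← map_smul]
  exact hΨ ((Submodule.Quotient.mk_eq_zero _).1 (by rw [Submodule.Quotient.mk_smul]; exact hy))

include hn eK in
theorem nontrivial : Nontrivial K := by
  by_contra hK
  rw [not_nontrivial_iff_subsingleton] at hK
  have := (nontrivial_and_not_finite n R ((Module.supportDim_self_eq_ringKrullDim (R := R)).trans hn)).1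
  exact not_subsingleton (LocCoh.H (maximalIdeal R) n R) eK.symm.toEquiv.subsingleton

include hn hn0 hf eK in
theorem associatedPrimes_eq [Module.Finite R K] :
    associatedPrimes R K = {p : Ideal R | p.IsPrime ∧ ringKrullDim (R ⧸ p) = n} := by
  classical
  have htop : ∀ (p : Ideal R), p.IsPrime → ringKrullDim (R ⧸ p) = n → p ∈ minimalPrimes R := by
    intro p hp hpd
    refine ⟨⟨hp, bot_le⟩, fun q hq hqp => ?_⟩
    by_contra hne
    have hlt : (⟨q, hq.1⟩ : PrimeSpectrum R) < ⟨p, hp⟩ := lt_of_le_of_ne hqp fun he =>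
      hne (congrArg PrimeSpectrum.asIdeal he).ge
    have h1 : (Order.coheight (⟨q, hq.1⟩ : PrimeSpectrum R) : WithBot ℕ∞) ≤ n := by
      rw [← hn]; exact Order.coheight_le_krullDim _
    have h2 : Order.coheight (⟨p, hp⟩ : PrimeSpectrum R) + 1 ≤ Order.coheight (⟨q, hq.1⟩ : PrimeSpectrum R) :=
      Order.coheight_add_one_le hlt
    have h3 : (Order.coheight (⟨p, hp⟩ : PrimeSpectrum R) : WithBot ℕ∞) = n := by
      rw [← hpd, Order.coheight_eq_krullDim_Ici, ringKrullDim_quotient]
      rfl
    have h4 : Order.coheight (⟨p, hp⟩ : PrimeSpectrum R) = (n : ℕ∞) := by exact_mod_cast h3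
    have h5 : Order.coheight (⟨q, hq.1⟩ : PrimeSpectrum R) ≤ (n : ℕ∞) := by exact_mod_cast h1
    rw [h4] at h2
    have h6 : ((n + 1 : ℕ) : ℕ∞) ≤ (n : ℕ∞) := by push_cast; exact h2.trans h5
    have h7 : n + 1 ≤ n := by exact_mod_cast h6
    omega
  have havoid : ∀ p : Ideal R, p.IsPrime → ringKrullDim (R ⧸ p) < n →
      ∃ a ∈ p, ringKrullDim (R ⧸ Ideal.span {a}) < n := by
    intro p hp hpd
    let S := {q ∈ minimalPrimes R | ringKrullDim (R ⧸ q) = n}
    have hS : S.Finite := (minimalPrimes.finite_of_isNoetherianRing R).subset fun q hq => hq.1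
    have hnot : ¬ ((p : Set R) ⊆ ⋃ q ∈ (hS.toFinset : Set (Ideal R)), (q : Set R)) := by
      rw [Ideal.subset_union_prime p p (fun q hq _ _ => ((hS.mem_toFinset).1 hq).1.1.1)]
      rintro ⟨q, hq, hpq⟩
      obtain ⟨hqmin, hqd⟩ := hS.mem_toFinset.1 hq
      have := hqmin.2 ⟨hp, bot_le⟩ hpq
      rw [le_antisymm hpq this, hqd] at hpd
      exact lt_irrefl _ hpd
    obtain ⟨a, hap, ha⟩ := Set.not_subset.1 hnot
    refine ⟨a, hap, ?_⟩
    have hle : ringKrullDim (R ⧸ Ideal.span {a}) ≤ ((n - 1 : ℕ) : WithBot ℕ∞) := by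
      rw [ringKrullDim_quotient]
      refine iSup_le fun l => ?_
      have h1 : (l.length : ℕ∞) ≤ Order.coheight l.head.1 :=
        length_le_coheight_head l
      have h2 : (Order.coheight l.head.1 : WithBot ℕ∞) ≤ n := by rw [← hn]; exact Order.coheight_le_krullDim _
      have h2' : Order.coheight l.head.1 ≤ (n : ℕ∞) := by exact_mod_cast h2
      have h4 : l.length ≤ n := by exact_mod_cast h1.trans h2'
      rcases h4.lt_or_eq with h5 | h5
      · exact_mod_cast Nat.le_sub_one_of_lt h5
      · exfalso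
        have hc : Order.coheight l.head.1 = (n : ℕ∞) := le_antisymm h2' (h5 ▸ h1)
        have hd : ringKrullDim (R ⧸ l.head.1.asIdeal) = n := by
          rw [ringKrullDim_quotient]
          exact (Order.coheight_eq_krullDim_Ici (α := PrimeSpectrum R) (x := l.head.1)).symm.trans
            (by rw [hc]; rfl)
        refine ha (Set.mem_biUnion (hS.mem_toFinset.2 ⟨htop _ l.head.1.isPrime hd, hd⟩) ?_)
        exact l.head.2 (Ideal.mem_span_singleton_self a)
    exact hle.trans_lt (by exact_mod_cast Nat.sub_lt hn0 Nat.one_pos)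
  ext p
  constructor
  · intro hp
    refine ⟨hp.isPrime, le_antisymm ((ringKrullDim_quotient_le p).trans hn.le) ?_⟩
    by_contra hlt
    obtain ⟨a, hap, ha⟩ := havoid p hp.isPrime (lt_of_not_ge hlt)
    obtain ⟨x, hx⟩ := hp.2
    have hreg := isSMulRegular hn hf eK a ha
    have hx0 : x ≠ 0 := by
      rintro rfl
      apply hp.isPrime.ne_top
      rw [hx]
      simp
    have hax : a ∈ (Submodule.span R {x}).annihilator.radical := by
      have : p ≤ ((⊥ : Submodule R K).colon {x}).radical := hx.le
      exact Ideal.radical_mono (fun r hr => by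
        rw [Submodule.mem_colon_singleton, Submodule.mem_bot] at hr
        exact (Submodule.mem_annihilator_span_singleton x r).2 hr) (this hap)
    obtain ⟨k, hk⟩ := hax
    exact hx0 ((hreg.pow k).right_eq_zero_of_smul ((Submodule.mem_annihilator_span_singleton x _).1 hk))
  · rintro ⟨hp, hpd⟩
    have hmin := htop p hp hpd
    have hsupp : (⟨p, hp⟩ : PrimeSpectrum R) ∈ Module.support R K := by
      by_contra h
      rw [Module.notMem_support_iff'] at h
      have hann : ∃ s, s ∉ p ∧ ∀ x : K, s • x = 0 := by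
        by_contra hcon
        push Not at hcon
        have hle : Module.annihilator R K ≤ p := fun r hr => by
          by_contra hrp
          obtain ⟨x, hx⟩ := hcon r hrp
          exact hx (Module.mem_annihilator.1 hr x)
        have : (⟨p, hp⟩ : PrimeSpectrum R) ∈ Module.support R K := by
          rw [Module.support_eq_zeroLocus]
          exact hle
        rw [Module.mem_support_iff'] at this
        obtain ⟨x, hx⟩ := this
        obtain ⟨s, hs, hs'⟩ := h x
        exact hx s hs hs'
      obtain ⟨s, hs, hs'⟩ := hann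
      have := (nontrivial_and_not_finite n (R ⧸ p) ((Module.supportDim_quotient_eq_ringKrullDim p).trans hpd)).1
      obtain ⟨z, hz⟩ := exists_ne (0 : LocCoh.H (maximalIdeal R) n (R ⧸ p))
      have hdim : Module.supportDim R ((R ⧸ p) ⧸ LinearMap.range (s • (LinearMap.id : (R ⧸ p) →ₗ[R] R ⧸ p))) < n := by
        refine lt_of_le_of_lt (supportDim_le_of_annihilated (p ⊔ Ideal.span {s}) fun c hc x => ?_) ?_
        · obtain ⟨x, rfl⟩ := Submodule.Quotient.mk_surjective _ x
          obtain ⟨c1, h1, c2, h2, rfl⟩ := Submodule.mem_sup.1 hc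
          obtain ⟨d, rfl⟩ := Ideal.mem_span_singleton.1 h2
          rw [add_smul, mul_comm s d, mul_smul]
          refine (congrArg₂ (· + ·) ?_ ((congrArg (d • ·) (smul_mem_range_smul s (R ⧸ p) _)).trans
            (smul_zero d))).trans (add_zero 0)
          rw [← Submodule.Quotient.mk_smul, smul_mk_eq_zero h1, Submodule.Quotient.mk_zero]
        · refine lt_of_not_ge fun hge => ?_
          have h1 : ringKrullDim (R ⧸ (p ⊔ Ideal.span {s})) = n :=
            le_antisymm ((ringKrullDim_quotient_le _).trans hn.le) hge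
          rw [ringKrullDim_quotient] at h1
          have hne : Nonempty (PrimeSpectrum.zeroLocus (R := R) (p ⊔ Ideal.span {s} : Ideal R)) := by
            by_contra hemp
            rw [not_nonempty_iff] at hemp
            rw [Order.krullDim_eq_bot] at h1
            exact WithBot.bot_ne_natCast n h1
          obtain ⟨l, hl⟩ := (Order.le_krullDim_iff (n := n)).1 h1.ge
          have hpl : (⟨p, hp⟩ : PrimeSpectrum R) < l.head.1 := lt_of_le_of_ne
            (fun x hx => l.head.2 (Ideal.mem_sup_left hx)) fun he => hs (by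
              have h2 : s ∈ l.head.1.asIdeal := l.head.2 (Ideal.mem_sup_right (Ideal.mem_span_singleton_self s))
              rwa [← he] at h2)
          have h3 : ((((l.map Subtype.val (fun _ _ h => h)).cons ⟨p, hp⟩
              (by exact hpl)).length : ℕ) : WithBot ℕ∞) ≤ ringKrullDim R :=
            Order.LTSeries.length_le_krullDim _
          rw [hn] at h3
          have h4 := WithBot.coe_le_coe.1 h3
          have h5 : ((l.map Subtype.val (fun _ _ h => h)).cons ⟨p, hp⟩ (by exact hpl)).length ≤ n := by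
            exact_mod_cast h4
          simp [RelSeries.cons, RelSeries.append, LTSeries.map] at h5
          omega
      obtain ⟨w, rfl⟩ := smul_H_surjective (I := maximalIdeal R) (supportDim_le_natCast hn _) s hdim z
      refine hz ?_
      obtain ⟨v, rfl⟩ := hmap_g_surjective (maximalIdeal R) (Submodule.injective_subtype p) p.mkQ_surjective
        (LinearMap.exact_subtype_mkQ p) n (subsingleton_of_supportDim_lt _ _ _
          ((supportDim_le_natCast hn _).trans_lt (by exact_mod_cast n.lt_succ_self))) w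
      have hv : s • v = 0 := by
        rw [← eK.apply_symm_apply v, ← map_smul, show s • eK.symm v = 0 from LinearMap.ext fun x => by
          rw [LinearMap.smul_apply, ← map_smul, hs', map_zero, LinearMap.zero_apply], map_zero]
      exact ((hmap (maximalIdeal R) n p.mkQ).map_smul s v).symm.trans (by rw [hv, map_zero])
    refine Module.associatedPrimes.minimalPrimes_annihilator_subset_associatedPrimes R K ?_
    rw [Module.support_eq_zeroLocus] at hsupp
    exact ⟨⟨hp, hsupp⟩, fun q hq hqp => hmin.2 ⟨hq.1, bot_le⟩ hqp⟩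

end Groth.Agent.CanonModLib
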