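import Groth.Agent.Lib.InjHull.Duality
import Mathlib.RingTheory.Filtration
import Mathlib.RingTheory.Nakayama
import Mathlib.RingTheory.Noetherian.Basic

/-!
# Finite modules with isomorphic Matlis duals are isomorphic
-/

universe u

open InjHull IsLocalRing

namespace Groth.Agent.InjHullLib

variable {R : Type u} [CommRing R] [IsNoetherianRing R] [IsLocalRing R]

omit [IsLocalRing R] in
/-- Maps modulo a high power of an ideal lift, modulo the ideal. -/
theorem exists_approx (I : Ideal R) (K K' : Type u) [AddCommGroup K] [Module R K] [Module.Finite R K]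
    [AddCommGroup K'] [Module R K'] [Module.Finite R K'] :
    ∃ c : ℕ, ∀ φ : K →ₗ[R] K' ⧸ (I ^ c • ⊤ : Submodule R K'), ∃ ψ : K →ₗ[R] K',
      ∀ x : K, ∀ y : K', Submodule.Quotient.mk y = φ x → ψ x - y ∈ (I • ⊤ : Submodule R K') := by
  classical
  obtain ⟨a, π, hπ⟩ := Module.Finite.exists_fin' R K
  obtain ⟨b, A, hA⟩ := Submodule.fg_iff_exists_fin_generating_family.1 (IsNoetherian.noetherian (LinearMap.ker π))
  let T : (Fin a → K') →ₗ[R] (Fin b → K') :=
    LinearMap.pi fun j => ∑ l, A j l • (LinearMap.proj l : (Fin a → K') →ₗ[R] K')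
  obtain ⟨k, hk⟩ := Ideal.exists_pow_inf_eq_pow_smul I (LinearMap.range T)
  refine ⟨k + 1, fun φ => ?_⟩
  choose v hv using fun l => Submodule.Quotient.mk_surjective _ (φ (π (Pi.single l 1)))
  have hTv : ∀ j, T v j ∈ (I ^ (k + 1) • ⊤ : Submodule R K') := fun j => by
    have hj : π (A j) = 0 := LinearMap.mem_ker.1 (hA ▸ Submodule.subset_span ⟨j, rfl⟩)
    rw [← Submodule.Quotient.mk_eq_zero]
    change Submodule.mkQ _ (T v j) = 0
    simp only [T, LinearMap.pi_apply, LinearMap.coe_sum, Finset.sum_apply, LinearMap.smul_apply,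
      LinearMap.proj_apply, map_sum, map_smul, Submodule.mkQ_apply, hv]
    simp only [← map_smul, ← map_sum]
    rw [← pi_eq_sum_univ' (A j), hj, map_zero]
  have hT : T v ∈ I ^ (k + 1) • (⊤ : Submodule R (Fin b → K')) ⊓ LinearMap.range T := by
    refine ⟨?_, v, rfl⟩
    rw [← Finset.univ_sum_single (T v)]
    refine Submodule.sum_mem _ fun j _ => ?_
    exact Submodule.smul_top_le_comap_smul_top _ (LinearMap.single R (fun _ : Fin b => K') j) (hTv j)
  rw [hk (k + 1) (Nat.le_succ k), show k + 1 - k = 1 by omega, pow_one] at hT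
  have hT' : T v ∈ (I • ⊤ : Submodule R (Fin a → K')).map T := by
    rw [Submodule.map_smul'', Submodule.map_top]
    exact (smul_mono_right I inf_le_right : _ ≤ I • LinearMap.range T) hT
  obtain ⟨w, hw, hwv⟩ := hT'
  let ψ0 : (Fin a → R) →ₗ[R] K' := Fintype.linearCombination R (v - w)
  have hker : LinearMap.ker π ≤ LinearMap.ker ψ0 := by
    rw [← hA, Submodule.span_le]
    rintro _ ⟨j, rfl⟩
    have : T (v - w) j = 0 := by rw [map_sub, hwv, sub_self]; rfl
    simpa [T, ψ0, Fintype.linearCombination_apply] using this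
  obtain ⟨ψ, hψ⟩ : ∃ ψ : K →ₗ[R] K', ψ ∘ₗ π = ψ0 :=
    ⟨(LinearMap.ker π).liftQ ψ0 hker ∘ₗ (π.quotKerEquivOfSurjective hπ).symm.toLinearMap, LinearMap.ext fun z => by
      have : (π.quotKerEquivOfSurjective hπ).symm (π z) = Submodule.Quotient.mk z :=
        (LinearEquiv.symm_apply_eq _).2 rfl
      simp [this]⟩
  refine ⟨ψ, fun x y hy => ?_⟩
  obtain ⟨z, rfl⟩ := hπ x
  have e1 : Submodule.Quotient.mk (∑ l, z l • v l) = φ (π z) := by
    change Submodule.mkQ _ (∑ l, z l • v l) = _
    simp only [map_sum, map_smul, Submodule.mkQ_apply, hv]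
    simp only [← map_smul, ← map_sum]
    rw [← pi_eq_sum_univ' z]
  have e2 : y - ∑ l, z l • v l ∈ (I • ⊤ : Submodule R K') :=
    Submodule.smul_mono_left (Ideal.pow_le_self k.succ_ne_zero)
      ((Submodule.Quotient.eq _).1 (hy.trans e1.symm))
  have e3 : ψ (π z) = ∑ l, z l • v l - ∑ l, z l • w l := by
    rw [← LinearMap.comp_apply, hψ, ← Finset.sum_sub_distrib]
    simp [ψ0, Fintype.linearCombination_apply, smul_sub]
  have e4 : ∑ l, z l • w l ∈ (I • ⊤ : Submodule R K') :=
    Submodule.sum_mem _ fun l _ => Submodule.smul_mem _ _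
      (Submodule.smul_top_le_comap_smul_top _ (LinearMap.proj (R := R) (φ := fun _ : Fin a => K') l) hw)
  rw [e3, show ∑ l, z l • v l - ∑ l, z l • w l - y = -(y - ∑ l, z l • v l) - ∑ l, z l • w l by abel]
  exact Submodule.sub_mem _ (Submodule.neg_mem _ e2) e4

variable {E : Type u} [AddCommGroup E] [Module R E]

omit [IsNoetherianRing R] [IsLocalRing R] in
/-- The dual of `K ⧸ J K`. -/
theorem nonempty_dual_quotient (J : Ideal R) (K : Type u) [AddCommGroup K] [Module R K] :
    Nonempty (((K ⧸ (J • ⊤ : Submodule R K)) →ₗ[R] E) ≃ₗ[R] Submodule.torsionBySet R (K →ₗ[R] E) (J : Set R)) := by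
  let l := LinearMap.lcomp R E (J • ⊤ : Submodule R K).mkQ
  have hr : LinearMap.range l = Submodule.torsionBySet R (K →ₗ[R] E) (J : Set R) := by
    ext θ
    rw [mem_torsion_iff]
    constructor
    · rintro ⟨η, rfl⟩ r hr
      refine LinearMap.ext fun x => ?_
      change r • η (Submodule.Quotient.mk x) = 0
      rw [← map_smul, ← Submodule.Quotient.mk_smul,
        (Submodule.Quotient.mk_eq_zero _).2 (Submodule.smul_mem_smul hr Submodule.mem_top), map_zero]
    · intro h
      refine ⟨Submodule.liftQ _ θ (Submodule.smul_le.2 fun r hr x _ => ?_), LinearMap.ext fun x => rfl⟩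
      rw [LinearMap.mem_ker, map_smul]
      exact LinearMap.congr_fun (h r hr) x
  exact ⟨(LinearEquiv.ofInjective l fun a b h => Submodule.linearMap_qext _ h).trans (LinearEquiv.ofEq _ _ hr)⟩

theorem isFiniteLength_quotient_smul_top (n : ℕ) (K : Type u) [AddCommGroup K] [Module R K] [Module.Finite R K] :
    IsFiniteLength R (K ⧸ (maximalIdeal R ^ n • ⊤ : Submodule R K)) := by
  obtain ⟨a, π, hπ⟩ := Module.Finite.exists_fin' R K
  obtain ⟨h1, h2⟩ := isFiniteLength_iff_isNoetherian_isArtinian.1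
    (isFiniteLength_quotient (R := R) (a := maximalIdeal R ^ n) le_rfl)
  let g : (Fin a → R ⧸ maximalIdeal R ^ n) →ₗ[R] K ⧸ (maximalIdeal R ^ n • ⊤ : Submodule R K) :=
    ∑ l, (Submodule.liftQ (maximalIdeal R ^ n)
      (LinearMap.toSpanSingleton R _ (Submodule.Quotient.mk (π (Pi.single l 1)))) fun r hr => by
        change r • Submodule.Quotient.mk (p := (maximalIdeal R ^ n • ⊤ : Submodule R K)) (π (Pi.single l 1)) = 0
        rw [← Submodule.Quotient.mk_smul, Submodule.Quotient.mk_eq_zero]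
        exact Submodule.smul_mem_smul hr Submodule.mem_top) ∘ₗ LinearMap.proj l
  have hg : Function.Surjective g := fun x => by
    obtain ⟨y, rfl⟩ := Submodule.Quotient.mk_surjective _ x
    obtain ⟨z, rfl⟩ := hπ y
    refine ⟨fun l => Submodule.Quotient.mk (z l), ?_⟩
    conv_rhs => rw [pi_eq_sum_univ' z]
    simp only [g, LinearMap.coe_sum, Finset.sum_apply, LinearMap.comp_apply, LinearMap.proj_apply,
      Submodule.liftQ_apply, LinearMap.toSpanSingleton_apply, map_sum, map_smul]
    simp only [← Submodule.mkQ_apply, map_sum, map_smul]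
  exact isFiniteLength_iff_isNoetherian_isArtinian.2 ⟨isNoetherian_of_surjective g (LinearMap.range_eq_top.2 hg), isArtinian_of_surjective _ g hg⟩

theorem nonempty_equiv_of_dual_equiv {f : ResidueField R →ₗ[R] E} (hf : IsInjectiveHull f)
    {K K' : Type u} [AddCommGroup K] [Module R K] [Module.Finite R K]
    [AddCommGroup K'] [Module R K'] [Module.Finite R K'] (e : (K →ₗ[R] E) ≃ₗ[R] (K' →ₗ[R] E)) :
    Nonempty (K ≃ₗ[R] K') := by
  have aux : ∀ {K K' : Type u} [AddCommGroup K] [Module R K] [Module.Finite R K]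
      [AddCommGroup K'] [Module R K'] [Module.Finite R K'], ((K →ₗ[R] E) ≃ₗ[R] (K' →ₗ[R] E)) →
      ∀ n, Nonempty ((K ⧸ (maximalIdeal R ^ n • ⊤ : Submodule R K)) ≃ₗ[R]
        (K' ⧸ (maximalIdeal R ^ n • ⊤ : Submodule R K'))) := by
    intro K K' _ _ _ _ _ _ e n
    obtain ⟨d⟩ := nonempty_dual_quotient (E := E) (maximalIdeal R ^ n) K
    obtain ⟨d'⟩ := nonempty_dual_quotient (E := E) (maximalIdeal R ^ n) K'
    let et : Submodule.torsionBySet R (K →ₗ[R] E) ((maximalIdeal R ^ n : Ideal R) : Set R) ≃ₗ[R]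
        Submodule.torsionBySet R (K' →ₗ[R] E) ((maximalIdeal R ^ n : Ideal R) : Set R) :=
      e.ofSubmodules _ _ (by
        ext θ
        rw [Submodule.mem_map]
        constructor
        · rintro ⟨η, hη, rfl⟩
          exact mem_torsion_iff.2 fun r hr => by
            change r • e η = 0
            rw [← map_smul, mem_torsion_iff.1 hη r hr, map_zero]
        · intro hθ
          exact ⟨e.symm θ, mem_torsion_iff.2 fun r hr => by rw [← map_smul, mem_torsion_iff.1 hθ r hr, map_zero],
            e.apply_symm_apply θ⟩)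
    let dd := ((d.trans et).trans d'.symm)
    exact ⟨((LinearEquiv.ofBijective _ (applyₗ_bijective hf (isFiniteLength_quotient_smul_top n K))).trans
      (dd.congrLeft E R)).trans
      (LinearEquiv.ofBijective _ (applyₗ_bijective hf (isFiniteLength_quotient_smul_top n K'))).symm⟩
  have surj : ∀ {K K' : Type u} [AddCommGroup K] [Module R K] [Module.Finite R K]
      [AddCommGroup K'] [Module R K'] [Module.Finite R K'], ((K →ₗ[R] E) ≃ₗ[R] (K' →ₗ[R] E)) →
      ∃ ψ : K →ₗ[R] K', Function.Surjective ψ := by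
    intro K K' _ _ _ _ _ _ e
    obtain ⟨c, hc⟩ := exists_approx (maximalIdeal R) K K'
    obtain ⟨θ⟩ := aux e c
    obtain ⟨ψ, hψ⟩ := hc (θ.toLinearMap ∘ₗ Submodule.mkQ _)
    refine ⟨ψ, LinearMap.range_eq_top.1 (top_le_iff.1 ?_)⟩
    refine Submodule.le_of_le_smul_of_le_jacobson_bot (I := maximalIdeal R) Module.Finite.fg_top
      (by rw [IsLocalRing.jacobson_eq_maximalIdeal ⊥ bot_ne_top]) fun y _ => ?_
    obtain ⟨x, hx⟩ := Submodule.Quotient.mk_surjective _ (θ.symm (Submodule.Quotient.mk y))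
    have := hψ x y (by
      rw [LinearMap.comp_apply, Submodule.mkQ_apply, hx]
      exact (θ.apply_symm_apply _).symm)
    rw [← add_sub_cancel (ψ x) y]
    exact Submodule.add_mem_sup (LinearMap.mem_range_self ψ x) (by rw [← neg_sub]; exact Submodule.neg_mem _ this)
  obtain ⟨ψ, hψ⟩ := surj e
  obtain ⟨ψ', hψ'⟩ := surj e.symm
  have : Function.Injective (ψ' ∘ₗ ψ) :=
    IsNoetherian.injective_of_surjective_endomorphism _ (hψ'.comp hψ)
  exact ⟨LinearEquiv.ofBijective ψ ⟨fun a b h => this (congrArg ψ' h), hψ⟩⟩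

end Groth.Agent.InjHullLib
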