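import Groth.Agent.Lib.Goren.GorenQuot27
import Groth.Agent.Lib.CanonMod.Unique
import Mathlib.Algebra.Category.ModuleCat.Ext.Finite

/-!
# Canonical modules of quotients of Gorenstein local rings
-/

set_option autoImplicit false

universe u

open CategoryTheory IsLocalRing
open Groth.Agent.LocCohLib Groth.Agent.InjHullLib

noncomputable section

namespace Groth.Agent.CanonModLib

variable {S R : Type u} [CommRing S] [CommRing R] [Algebra S R] (hs : Function.Surjective (algebraMap S R))

include hs in
/-- A module killed by the kernel is a module over the quotient. -/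
@[reducible] def moduleOfSurjective (X : Type u) [AddCommGroup X] [Module S X]
    (h : ∀ a : S, algebraMap S R a = 0 → ∀ x : X, a • x = 0) : Module R X :=
  letI := (show Module.IsTorsionBySet S X (RingHom.ker (algebraMap S R)) from fun x a => h a.1 a.2 x).module
  Module.compHom X (RingHom.quotientKerEquivOfSurjective hs).symm.toRingHom

include hs in
theorem isScalarTower_moduleOfSurjective (X : Type u) [AddCommGroup X] [Module S X]
    (h : ∀ a : S, algebraMap S R a = 0 → ∀ x : X, a • x = 0) :
    letI := moduleOfSurjective hs X h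
    IsScalarTower S R X := by
  letI := moduleOfSurjective hs X h
  refine IsScalarTower.of_algebraMap_smul fun a x => ?_
  have e : (RingHom.quotientKerEquivOfSurjective hs).symm (algebraMap S R a) = Ideal.Quotient.mk _ a := by
    rw [RingEquiv.symm_apply_eq]; rfl
  show ((show Module.IsTorsionBySet S X (RingHom.ker (algebraMap S R)) from fun x a => h a.1 a.2 x).module).smul
    ((RingHom.quotientKerEquivOfSurjective hs).symm (algebraMap S R a)) x = a • x
  rw [e]
  rfl

/-- `Ext` out of `R` is killed by the kernel. -/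
theorem smul_ext_eq_zero (N : ModuleCat.{u} S) (j : ℕ) (a : S) (ha : algebraMap S R a = 0)
    (x : Abelian.Ext (ModuleCat.of S R) N j) : a • x = 0 := by
  rw [← DepthLib.mk₀_smul_id_comp a x, show a • 𝟙 (ModuleCat.of S R) = 0 from ModuleCat.hom_ext (LinearMap.ext fun r => by
    show a • r = 0
    rw [Algebra.smul_def, ha, zero_mul]), Abelian.Ext.mk₀_zero, Abelian.Ext.zero_comp]

variable [IsLocalRing S] [IsLocalRing R]

include hs in
/-- The hull over the quotient sits in the hull over `S` as the torsion part. -/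
theorem exists_hull_embedding {ES : Type u} [AddCommGroup ES] [Module S ES] {fS : ResidueField S →ₗ[S] ES}
    (hfS : InjHull.IsInjectiveHull fS) {E : Type u} [AddCommGroup E] [Module R E] [Module S E] [IsScalarTower S R E]
    {f : ResidueField R →ₗ[R] E} (hf : InjHull.IsInjectiveHull f) :
    ∃ g : E →ₗ[S] ES, Function.Injective g ∧
      ∀ x : ES, (∀ a : S, algebraMap S R a = 0 → a • x = 0) → x ∈ LinearMap.range g := by
  have hm : (maximalIdeal S).map (algebraMap S R) = maximalIdeal R := GorenLib.map_maximalIdeal_eq hs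
  let e₁ : E := f (residue R 1)
  have hkill : maximalIdeal S ≤ LinearMap.ker (LinearMap.toSpanSingleton S E e₁) := fun a ha => by
    rw [LinearMap.mem_ker, LinearMap.toSpanSingleton_apply, ← algebraMap_smul R a e₁, ← map_smul,
      residue_smul_eq_zero (hm ▸ Ideal.mem_map_of_mem _ ha), map_zero]
  let j : ResidueField S →ₗ[S] E := Submodule.liftQ _ (LinearMap.toSpanSingleton S E e₁) hkill
  have hj : ∀ a : S, j (residue S a) = a • e₁ := fun a => rfl
  have hjf : ∀ r : ResidueField R, ∃ a : S, f r = j (residue S a) := fun r => by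
    obtain ⟨r, rfl⟩ := residue_surjective r
    obtain ⟨a, rfl⟩ := hs r
    refine ⟨a, ?_⟩
    rw [hj, ← algebraMap_smul R a e₁, ← map_smul]
    refine congrArg f ?_
    show residue R _ = residue R (algebraMap S R a * 1)
    rw [mul_one]
  have hjinj : Function.Injective j := by
    rw [injective_iff_map_eq_zero]
    intro x hx
    obtain ⟨a, rfl⟩ := residue_surjective x
    rw [residue_eq_zero_iff]
    by_contra ha
    have hu : IsUnit a := not_not.1 fun h => ha ((mem_maximalIdeal a).2 h)
    rw [hj, hu.smul_eq_zero] at hx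
    exact (one_ne_zero (α := ResidueField R)) (hf.injective (by rw [map_zero, ← hx, ← map_one (residue R)]))
  obtain ⟨g, hg⟩ := hfS.isInjective.out j hjinj fS
  have hginj : Function.Injective g := by
    rw [injective_iff_map_eq_zero]
    intro x hx
    by_contra hx0
    obtain ⟨r, m, hm', hm0⟩ := hf.exists_smul hx0
    obtain ⟨a, rfl⟩ := hs r
    obtain ⟨c, hc⟩ := hjf m
    rw [algebraMap_smul] at hm'
    have h1 : fS (residue S c) = 0 := by rw [← hg, ← hc, hm', map_smul, hx, smul_zero]
    have h2 : residue S c = 0 := hfS.injective (h1.trans (map_zero _).symm)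
    exact hm0 (hf.injective (by rw [hc, h2, map_zero, map_zero]))
  refine ⟨g, hginj, fun x hx => ?_⟩
  let T : Submodule S ES := Submodule.torsionBySet S ES (RingHom.ker (algebraMap S R) : Set S)
  have hTk : ∀ a : S, algebraMap S R a = 0 → ∀ z : T, a • z = 0 := fun a ha z =>
    Subtype.ext ((Submodule.mem_torsionBySet_iff _ _).1 z.2 ⟨a, ha⟩)
  letI : Module R T := moduleOfSurjective hs T hTk
  haveI : IsScalarTower S R T := isScalarTower_moduleOfSurjective hs T hTk
  have hgT : ∀ y : E, g y ∈ T := fun y => (Submodule.mem_torsionBySet_iff _ _).2 fun a => by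
    show (a : S) • g y = 0
    rw [← map_smul, ← algebraMap_smul R (a : S) y, (a.2 : algebraMap S R a = 0), zero_smul, map_zero]
  let gT : E →ₗ[R] T := LinearMap.extendScalarsOfSurjective hs (g.codRestrict T hgT)
  obtain ⟨r, hr⟩ := hf.isInjective.out gT (fun a b h => hginj (congrArg Subtype.val h)) LinearMap.id
  have hrS : ∀ (a : S) (z : T), r (a • z) = a • r z := fun a z => (r.restrictScalars S).map_smul a z
  have hrinj : ∀ z : T, r z = 0 → z = 0 := by
    intro z hz
    by_contra hz0
    obtain ⟨a, m, hm', hm0⟩ := hfS.exists_smul (x := (z : ES)) fun h => hz0 (Subtype.ext h)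
    have h1 : a • z = gT (j m) := Subtype.ext (show a • (z : ES) = g (j m) by rw [hg, hm'])
    have h2 := hrS a z
    rw [h1, hr, hz, smul_zero] at h2
    exact hm0 (hjinj (h2.trans (map_zero j).symm))
  let z : T := ⟨x, (Submodule.mem_torsionBySet_iff _ _).2 fun a => hx a.1 a.2⟩
  refine ⟨r z, ?_⟩
  have : gT (r z) = z := by
    rw [← sub_eq_zero]
    exact hrinj _ (by rw [map_sub, hr, LinearMap.id_apply, sub_self])
  exact congrArg Subtype.val this

variable [LocCoh.IsGorensteinLocalRing S] [IsNoetherianRing R] {E : Type u} [AddCommGroup E] [Module R E]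
  {f : ResidueField R →ₗ[R] E} (hf : InjHull.IsInjectiveHull f)

include hs hf in
/-- An `R`-module that is `Ext^{N-n}_S(R, S)` over `S` is dual to `H^n(R)`. -/
theorem dual_equiv_H {N n : ℕ} (hN : ringKrullDim S = N) (hnN : n ≤ N) (K : Type u) [AddCommGroup K] [Module R K]
    [Module S K] [IsScalarTower S R K] (e : K ≃ₗ[S] Abelian.Ext (ModuleCat.of S R) (ModuleCat.of S S) (N - n)) :
    Nonempty ((K →ₗ[R] E) ≃ₗ[R] LocCoh.H (maximalIdeal R) n R) := by
  letI : Module S E := Module.compHom E (algebraMap S R)
  haveI : IsScalarTower S R E := IsScalarTower.of_algebraMap_smul fun _ _ => rfl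
  haveI : Module.Finite S R := Module.Finite.of_surjective (Algebra.linearMap S R) hs
  obtain ⟨ES, _, _, fS, hfS⟩ := exists_injective_hull S (ResidueField S)
  obtain ⟨g, hg, hgr⟩ := exists_hull_embedding hs hfS hf
  obtain ⟨D⟩ := GorenLib.exists_dualityData hN hfS
  obtain ⟨d⟩ := D.duality (N - n) R (Nat.sub_le _ _)
  rw [Nat.sub_sub_self hnN] at d
  obtain ⟨φ, hφ⟩ := exists_restrictScalars_addEquiv R (maximalIdeal S) n R
  rw [← GorenLib.map_maximalIdeal_eq hs]
  let c : (K →ₗ[R] E) →+ (K →ₗ[S] ES) :=
    { toFun := fun ψ => g ∘ₗ ψ.restrictScalars S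
      map_zero' := LinearMap.ext fun x => map_zero g
      map_add' := fun a b => LinearMap.ext fun x => map_add g _ _ }
  have hc : Function.Bijective c := by
    refine ⟨fun a b h => LinearMap.ext fun x => hg (LinearMap.congr_fun h x), fun ψ => ?_⟩
    choose y hy using fun x : K => hgr (ψ x) fun a ha => by
      rw [← map_smul, ← algebraMap_smul R a x, ha, zero_smul, map_zero]
    refine ⟨LinearMap.extendScalarsOfSurjective hs
      { toFun := y
        map_add' := fun a b => hg (by rw [map_add, hy, hy, hy, map_add])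
        map_smul' := fun a b => hg (by rw [RingHom.id_apply, map_smul, hy, hy, map_smul]) }, LinearMap.ext fun x => hy x⟩
  let T : (K →ₗ[R] E) ≃+ LocCoh.H ((maximalIdeal S).map (algebraMap S R)) n R :=
    (AddEquiv.ofBijective c hc).trans (((LinearEquiv.congrLeft ES S e) ≪≫ₗ d).toAddEquiv.trans φ.symm)
  refine ⟨{ T with map_smul' := fun r ψ => ?_ }⟩
  obtain ⟨a, rfl⟩ := hs r
  change T (algebraMap S R a • ψ) = algebraMap S R a • T ψ
  apply φ.injective
  rw [hφ]
  simp only [T, AddEquiv.trans_apply, AddEquiv.apply_symm_apply]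
  refine (congrArg _ ?_).trans (((LinearEquiv.congrLeft ES S e) ≪≫ₗ d).map_smul a (AddEquiv.ofBijective c hc ψ))
  refine LinearMap.ext fun x => ?_
  show g ((algebraMap S R a • ψ) x) = a • g (ψ x)
  rw [LinearMap.smul_apply, algebraMap_smul, map_smul]

include hs hf in
theorem exists_canonMod {N n : ℕ} (hN : ringKrullDim S = N) (hnN : n ≤ N) :
    ∃ (K : ModuleCat.{u} R) (_ : Module S K) (_ : IsScalarTower S R K), Module.Finite R K ∧
      Nonempty ((K →ₗ[R] E) ≃ₗ[R] LocCoh.H (maximalIdeal R) n R) ∧
      Nonempty (K ≃ₗ[S] Abelian.Ext (ModuleCat.of S R) (ModuleCat.of S S) (N - n)) := by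
  haveI : Module.Finite S R := Module.Finite.of_surjective (Algebra.linearMap S R) hs
  let X := Abelian.Ext (ModuleCat.of S R) (ModuleCat.of S S) (N - n)
  have hk : ∀ a : S, algebraMap S R a = 0 → ∀ x : X, a • x = 0 := smul_ext_eq_zero (ModuleCat.of S S) (N - n)
  letI : Module R X := moduleOfSurjective hs X hk
  haveI : IsScalarTower S R X := isScalarTower_moduleOfSurjective hs X hk
  exact ⟨ModuleCat.of R X, inferInstanceAs (Module S X), inferInstanceAs (IsScalarTower S R X),
    Module.Finite.of_restrictScalars_finite S R X, dual_equiv_H hs hf hN hnN X (LinearEquiv.refl S X),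
    ⟨LinearEquiv.refl S X⟩⟩

include hs hf in
/-- Every canonical module is `Ext^{N-n}_S(R, S)`. -/
theorem nonempty_equiv_ext {N n : ℕ} (hN : ringKrullDim S = N) (hnN : n ≤ N) (K : Type u) [AddCommGroup K] [Module R K]
    [Module.Finite R K] [Module S K] [IsScalarTower S R K] (eK : (K →ₗ[R] E) ≃ₗ[R] LocCoh.H (maximalIdeal R) n R) :
    Nonempty (K ≃ₗ[S] Abelian.Ext (ModuleCat.of S R) (ModuleCat.of S S) (N - n)) := by
  obtain ⟨K', _, _, _, ⟨e'⟩, ⟨i⟩⟩ := exists_canonMod hs hf hN hnN
  obtain ⟨t⟩ := nonempty_equiv_of_dual_equiv hf (eK ≪≫ₗ e'.symm)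
  exact ⟨t.restrictScalars S ≪≫ₗ i⟩

end Groth.Agent.CanonModLib
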