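import Groth.Agent.Lib.CanonMod.Murthy27
import Groth.Agent.Lib.LocCoh.ExtCompare
import Groth.Agent.Lib.Goren.CMHeight27

/-!
# The canonical module of a Cohen-Macaulay domain as an unmixed ideal
-/

set_option autoImplicit false
universe u

open CategoryTheory IsLocalRing Opposite

noncomputable section

namespace Groth.Agent.CanonModLib

variable {A : Type u} [CommRing A] [IsDomain A] [IsNoetherianRing A] (K : Type u) [AddCommGroup K] [Module A K]
  [Module.Finite A K]

theorem full_dim (hend : Function.Bijective (fun r : A => r • (LinearMap.id : K →ₗ[A] K))) (p : PrimeSpectrum A) :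
    (p.asIdeal.height : WithBot ℕ∞) ≤
      Module.supportDim (Localization.AtPrime p.asIdeal) (LocalizedModule p.asIdeal.primeCompl K) := by
  classical
  let S := p.asIdeal.primeCompl
  haveI : Module.Finite (Localization.AtPrime p.asIdeal) (LocalizedModule S K) :=
    Module.Finite.of_isLocalizedModule S (LocalizedModule.mkLinearMap S K)
  rw [← DepthLib.supportDim_eq_ringKrullDim_of_isPrime]
  refine Order.krullDim_le_of_strictMono (fun x => ⟨x.1, ?_⟩) fun _ _ h => h
  rw [Module.mem_support_iff_of_finite]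
  intro c hc
  obtain ⟨a, t, rfl⟩ := IsLocalization.exists_mk'_eq S c
  obtain ⟨m, v, hv⟩ := Module.Finite.exists_fin (R := A) (M := K)
  have key : ∀ l, ∃ w : S, (w : A) • a • v l = 0 := fun l => by
    have h := Module.mem_annihilator.1 hc (LocalizedModule.mk (v l) 1)
    have h2 : algebraMap A (Localization.AtPrime p.asIdeal) a • LocalizedModule.mk (v l) (1 : S) = 0 := by
      rw [← IsLocalization.mk'_spec (Localization.AtPrime p.asIdeal) a t, mul_comm, mul_smul, h, smul_zero]
    rw [algebraMap_smul, LocalizedModule.smul'_mk, ← LocalizedModule.zero_mk (S := S) 1, LocalizedModule.mk_eq] at h2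
    obtain ⟨w, hw⟩ := h2
    exact ⟨w, by simpa [Submonoid.smul_def] using hw⟩
  choose w hw using key
  have h0 : (∏ l, (w l : A)) * a = 0 := hend.1 (LinearMap.ext_on_range hv fun l => by
    show ((∏ l, (w l : A)) * a) • v l = (0 : A) • v l
    obtain ⟨e, he⟩ := Finset.dvd_prod_of_mem (fun y => (w y : A)) (Finset.mem_univ l)
    rw [he, zero_smul, mul_assoc, mul_comm e, ← mul_assoc, mul_comm, mul_smul, mul_smul, hw, smul_zero])
  have ha : a = 0 := (mul_eq_zero.1 h0).resolve_left
    (Finset.prod_ne_zero_iff.2 fun l _ h => (w l).2 (h ▸ p.asIdeal.zero_mem))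
  rw [ha, IsLocalization.mk'_zero]
  exact zero_mem _

theorem torsion_free (hend : Function.Bijective (fun r : A => r • (LinearMap.id : K →ₗ[A] K)))
    (hS : LocCoh.HasSk 2 A K) (c : A) (x : K) (hcx : c • x = 0) : c = 0 ∨ x = 0 := by
  by_contra hne
  push Not at hne
  obtain ⟨P, hP, hle⟩ := exists_le_isAssociatedPrime_of_isNoetherianRing A x hne.2
  haveI := hP.isPrime
  have hcP : c ∈ P := hle (by rw [Submodule.mem_colon_singleton, Submodule.mem_bot]; exact hcx)
  haveI : Module.Finite (Localization.AtPrime P) (LocalizedModule P.primeCompl K) :=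
    Module.Finite.of_isLocalizedModule P.primeCompl (LocalizedModule.mkLinearMap P.primeCompl K)
  have h0 : LocCoh.depth (Localization.AtPrime P) (LocalizedModule P.primeCompl K) = 0 :=
    Depth3.depth_eq_zero_iff.2
      (Module.associatedPrimes.mem_associatedPrimes_atPrime_of_mem_associatedPrimes hP)
  have h1 := hS P
  rw [h0] at h1
  have h2 : (1 : ℕ∞) ≤ P.height := by
    refine Order.one_le_iff_ne_zero.2 fun h => ?_
    have := Ideal.height_eq_zero_iff.1 h
    rw [IsDomain.minimalPrimes_eq_singleton_bot] at this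
    exact hne.1 (Ideal.mem_bot.1 ((Set.mem_singleton_iff.1 this) ▸ hcP))
  have h3 : ((1 : ℕ∞) : WithBot ℕ∞) ≤ 0 :=
    le_trans (le_min (by exact_mod_cast one_le_two) ((WithBot.coe_le_coe.2 h2).trans (full_dim K hend ⟨P, inferInstance⟩))) h1
  exact absurd h3 (by decide)

theorem exists_embedding (hend : Function.Bijective (fun r : A => r • (LinearMap.id : K →ₗ[A] K)))
    (hS : LocCoh.HasSk 2 A K) : ∃ φ : K →ₗ[A] A, Function.Injective φ ∧ φ ≠ 0 := by
  have htf := torsion_free K hend hS
  obtain ⟨φ, hφ⟩ : ∃ φ : K →ₗ[A] A, φ ≠ 0 := by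
    let S := nonZeroDivisors A
    let F := Localization S
    letI : Field F := IsFractionRing.toField A
    haveI : Nontrivial (LocalizedModule S K) := by
      by_contra h
      rw [not_nontrivial_iff_subsingleton, LocalizedModule.subsingleton_iff] at h
      choose s hs hs0 using h
      have hall : ∀ x : K, x = 0 := fun x => (htf _ _ (hs0 x)).resolve_left (nonZeroDivisors.ne_zero (hs x))
      exact one_ne_zero (hend.1 (LinearMap.ext fun x => by rw [hall x, map_zero, map_zero]))
    obtain ⟨v, hv⟩ := exists_ne (0 : LocalizedModule S K)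
    obtain ⟨χ, hχ⟩ : ∃ χ : Module.Dual F (LocalizedModule S K), χ v ≠ 0 := by
      by_contra h
      push Not at h
      exact hv ((Module.forall_dual_apply_eq_zero_iff F v).1 h)
    obtain ⟨φ, s, hφ⟩ := Module.FinitePresentation.exists_lift_of_isLocalizedModule S (Algebra.linearMap A F)
      (χ.restrictScalars A ∘ₗ LocalizedModule.mkLinearMap S K) (h := Module.finitePresentation_of_finite A K)
    refine ⟨φ, fun h0 => hχ ?_⟩
    induction v using LocalizedModule.induction_on with
    | h z t =>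
      have h1 := LinearMap.congr_fun hφ z
      rw [h0, LinearMap.comp_zero, LinearMap.zero_apply, LinearMap.smul_apply, Submonoid.smul_def, LinearMap.comp_apply,
        LinearMap.restrictScalars_apply] at h1
      have h2 : algebraMap A F s * (algebraMap A F t * χ (LocalizedModule.mk z t)) = 0 := by
        rw [← Algebra.smul_def, ← Algebra.smul_def, ← LinearMap.map_smul_of_tower, LocalizedModule.smul'_mk,
          show LocalizedModule.mk ((t : A) • z) t = LocalizedModule.mkLinearMap S K z from LocalizedModule.mk_cancel t z]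
        exact h1.symm
      rcases mul_eq_zero.1 h2 with h3 | h3
      · exact absurd h3 (IsLocalization.map_units F s).ne_zero
      · exact (mul_eq_zero.1 h3).resolve_left (IsLocalization.map_units F t).ne_zero
  refine ⟨φ, ?_, hφ⟩
  rw [injective_iff_map_eq_zero]
  intro z hz
  by_contra hz0
  refine hφ (LinearMap.ext fun x => ?_)
  obtain ⟨c, hc⟩ := hend.2 (φ.smulRight z)
  have h1 : c • z = 0 := (LinearMap.congr_fun hc z).trans (by simp [hz])
  have h2 : φ.smulRight z x = 0 := by
    rw [← hc, (htf c z h1).resolve_right hz0]; simp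
  exact ((htf _ _ h2).resolve_right hz0)

/-- An `(S_2)` module with scalar endomorphisms is an ideal without embedded or high associated primes. -/
theorem exists_ideal_unmixed (hend : Function.Bijective (fun r : A => r • (LinearMap.id : K →ₗ[A] K)))
    (hS : LocCoh.HasSk 2 A K) :
    ∃ I : Ideal A, Nonempty (K ≃ₗ[A] I) ∧ (I ≠ ⊤ → ∀ q ∈ associatedPrimes A (A ⧸ I), q.height = 1) := by
  classical
  obtain ⟨φ, hinj, hφ⟩ := exists_embedding K hend hS
  let e : K ≃ₗ[A] ↥(LinearMap.range φ : Ideal A) := LinearEquiv.ofInjective φ hinj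
  set I : Ideal A := LinearMap.range φ with hIdef
  refine ⟨I, ⟨e⟩, fun hI q hq => ?_⟩
  obtain ⟨w, hw⟩ : ∃ w, φ w ≠ 0 := by
    by_contra h; push Not at h; exact hφ (LinearMap.ext h)
  obtain ⟨hp, z, hz⟩ := isAssociatedPrime_iff.1 hq
  obtain ⟨x, rfl⟩ := Submodule.Quotient.mk_surjective _ z
  have hqx : ∀ b : A, b ∈ q ↔ b * x ∈ I := fun b => by
    rw [hz, Submodule.mem_colon_singleton, Submodule.mem_bot, ← Submodule.Quotient.mk_smul, Submodule.Quotient.mk_eq_zero,
      smul_eq_mul]
  have hIq : I ≤ q := fun b hb => (hqx b).2 (I.mul_mem_right x hb)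
  have hxI : x ∉ I := fun h => hp.ne_top ((Ideal.eq_top_iff_one q).2 ((hqx 1).2 (by rwa [one_mul])))
  have ha : φ w ∈ q := hIq ⟨w, rfl⟩
  have h1 : (1 : ℕ∞) ≤ q.height := by
    refine Order.one_le_iff_ne_zero.2 fun h => hw ?_
    have := Ideal.height_eq_zero_iff.1 h
    rw [IsDomain.minimalPrimes_eq_singleton_bot] at this
    exact Ideal.mem_bot.1 ((Set.mem_singleton_iff.1 this) ▸ ha)
  refine le_antisymm ?_ h1
  by_contra hgt
  have h2 : (2 : ℕ∞) ≤ q.height := by
    have := Order.add_one_le_of_lt (not_le.1 hgt)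
    simpa [one_add_one_eq_two] using this
  have hS' : LocCoh.HasSk 2 A I := DepthLib.hasSk_congr e hS
  have hf : Function.Injective (LinearMap.toSpanSingleton A I ⟨φ w, w, rfl⟩) := fun a b hab =>
    mul_right_cancel₀ hw (congrArg Subtype.val hab)
  have hd : ((2 : ℕ) : ℕ∞) ≤ LocCoh.idealDepth q (I : Type u) := by
    refine (DepthLib.natCast_le_idealDepth_iff_forall_localized 2).2 fun P hP => ?_
    have h3 := hS' P.asIdeal
    have h4 : ((2 : ℕ∞) : WithBot ℕ∞) ≤
        Module.supportDim (Localization.AtPrime P.asIdeal) (LocalizedModule P.asIdeal.primeCompl I) :=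
      (WithBot.coe_le_coe.2 (h2.trans (Ideal.height_mono hP))).trans
        (min_le_supportDim_localized_of_injective _ _ hf P)
    rw [min_eq_left (le_of_eq_of_le (by rfl) h4)] at h3
    exact WithBot.coe_le_coe.1 (le_of_eq_of_le (by rfl) h3)
  have hreg : IsSMulRegular I (φ w) := fun a b hab => Subtype.ext (mul_left_cancel₀ hw (congrArg Subtype.val hab))
  have hq1 : (1 : ℕ∞) ≤ LocCoh.idealDepth q (QuotSMulTop (φ w) I) := by
    have h5 := DepthLib.idealDepth_quotSMulTop_add_one ha hreg
    rw [← h5] at hd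
    exact (ENat.add_le_add_iff_right ENat.one_ne_top).1 (by simpa [one_add_one_eq_two] using hd)
  let y : I := ⟨φ w * x, (hqx _).1 ha⟩
  let M := QuotSMulTop (φ w) I
  have hkill : ∀ b ∈ q, b • (Submodule.Quotient.mk y : M) = 0 := fun b hb => by
    rw [← Submodule.Quotient.mk_smul, Submodule.Quotient.mk_eq_zero]
    exact (Submodule.mem_smul_pointwise_iff_exists _ _ _).2 ⟨⟨b * x, (hqx _).1 hb⟩, trivial, Subtype.ext (by
      show φ w * (b * x) = b * (φ w * x)
      ring)⟩
  have h0 : (Submodule.Quotient.mk y : M) = 0 := by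
    by_cases hM : q • (⊤ : Submodule A M) = ⊤
    · obtain ⟨r, hr, hr0⟩ := Submodule.exists_sub_one_mem_and_smul_eq_zero_of_fg_of_le_smul q (⊤ : Submodule A M)
        Module.Finite.fg_top hM.ge
      have := hkill _ hr
      rw [sub_smul, hr0 _ trivial, one_smul, zero_sub, neg_eq_zero] at this
      exact this
    · obtain ⟨b, hb, hbreg⟩ := DepthLib.exists_isSMulRegular_of_one_le_idealDepth hM hq1
      exact hbreg ((hkill b hb).trans (smul_zero b).symm)
  obtain ⟨t, -, ht⟩ := (Submodule.mem_smul_pointwise_iff_exists _ _ _).1 ((Submodule.Quotient.mk_eq_zero _).1 h0)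
  exact hxI (by
    have : (t : A) = x := mul_left_cancel₀ hw (congrArg Subtype.val ht)
    exact this ▸ t.2)

theorem ext_equiv_self_or_unmixed (B : Type u) [CommRing B] [IsRegularLocalRing B] (p : Ideal B) [p.IsPrime]
    [LocCoh.IsCohenMacaulayLocalRing (B ⧸ p)] (r : ℕ) (hr : p.height = r) :
    Nonempty (((Ext B (ModuleCat.{u} B) r).obj (op (ModuleCat.of B (B ⧸ p)))).obj (ModuleCat.of B B) ≃ₗ[B] (B ⧸ p)) ∨
      ∃ I : Ideal (B ⧸ p), I ≠ ⊤ ∧ (∀ q ∈ associatedPrimes (B ⧸ p) ((B ⧸ p) ⧸ I), q.height = 1) ∧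
        Nonempty (((Ext B (ModuleCat.{u} B) r).obj (op (ModuleCat.of B (B ⧸ p)))).obj (ModuleCat.of B B) ≃ₗ[B] I) := by
  haveI : LocCoh.IsGorensteinLocalRing B := S0342.result B
  haveI := GorenLib.isCohenMacaulayLocalRing_of_gorenstein (S := B)
  obtain ⟨n, hn⟩ := DepthLib.exists_supportDim_eq_natCast (R := B ⧸ p) (M := B ⧸ p)
  rw [Module.supportDim_self_eq_ringKrullDim] at hn
  have hN : ringKrullDim B = ((n + r : ℕ) : WithBot ℕ∞) := by
    rw [GorenLib.ringKrullDim_eq_quotient_add_height p (Ideal.IsPrime.ne_top ‹_›), hn, hr]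
    rfl
  obtain ⟨E, _, _, f, hf⟩ := InjHullLib.exists_injective_hull (B ⧸ p) (ResidueField (B ⧸ p))
  obtain ⟨K, _, _, hK, ⟨eK⟩, ⟨eX⟩⟩ := exists_canonMod (S := B) (R := B ⧸ p)
    (Ideal.Quotient.mk_surjective : Function.Surjective (Ideal.Quotient.mk p)) hf hN (Nat.le_add_right n r)
  haveI := hK
  obtain ⟨I, ⟨e⟩, hI⟩ := exists_ideal_unmixed (A := B ⧸ p) K (S7703.result _ n hn E f hf K eK)
    (hasSk_two_canonMod hf eK hn)
  rw [Nat.add_sub_cancel_left] at eX
  obtain ⟨γ⟩ := LocCohLib.nonempty_extNatIso (R := B) r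
  let eExt := ((γ.app (op (ModuleCat.of B (B ⧸ p)))).app (ModuleCat.of B B)).toLinearEquiv
  by_cases htop : I = ⊤
  · subst htop
    exact Or.inl ⟨eExt ≪≫ₗ (eX.symm ≪≫ₗ (e ≪≫ₗ Submodule.topEquiv).restrictScalars B)⟩
  · exact Or.inr ⟨I, htop, hI htop, ⟨eExt ≪≫ₗ (eX.symm ≪≫ₗ e.restrictScalars B)⟩⟩

end Groth.Agent.CanonModLib
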