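import Groth.Agent.Lib.CanonMod.CMCase27

/-!
# Injective dimension of a canonical module of a Cohen-Macaulay local ring
-/

set_option autoImplicit false

universe u

open CategoryTheory IsLocalRing RingTheory.Sequence Pointwise
open Groth.Agent.LocCohLib Groth.Agent.InjHullLib

noncomputable section

namespace Groth.Agent.CanonModLib

variable {R : Type u} [CommRing R] [LocCoh.IsCohenMacaulayLocalRing R] {E : Type u} [AddCommGroup E] [Module R E]
  {f : ResidueField R →ₗ[R] E} (hf : InjHull.IsInjectiveHull f) {K : Type u} [AddCommGroup K] [Module R K] [Module.Finite R K]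
  {n : ℕ} (P : DualPair R E n R K)

theorem dualityData {R : Type u} [CommRing R] [IsNoetherianRing R] [IsLocalRing R] {E : Type u} [AddCommGroup E]
    [Module R E] {f : ResidueField R →ₗ[R] E} (hf : InjHull.IsInjectiveHull f) {K : Type u} [AddCommGroup K] [Module R K]
    [Module.Finite R K] {n : ℕ} (P : DualPair R E n R K) :
    Nonempty (GorenLib.DualityData (maximalIdeal R) n K E) := by
  obtain ⟨e⟩ := P.2.2.2
  exact ⟨⟨P.1, cdLE_of_ringKrullDim_le _ ((Module.supportDim_self_eq_ringKrullDim (R := R)).symm.trans P.supportDim_eq).le,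
    hf.isInjective, e⟩⟩

include hf P in
theorem isCohenMacaulay_canonMod : LocCoh.IsCohenMacaulayModule R K ∧ Module.supportDim R K = n := by
  haveI := P.nontrivial_K
  obtain ⟨as, hlen, hmem, hreg⟩ : ∃ as : List R, as.length = n ∧ (∀ a ∈ as, a ∈ maximalIdeal R) ∧
      IsWeaklyRegular R as := by
    obtain ⟨as, h1, h2, h3⟩ := DepthLib.exists_isWeaklyRegular_of_le_idealDepth
      (DepthLib.smul_top_ne_top (M := R) (maximalIdeal.isMaximal R).ne_top) P.natCast_le_depth
    exact ⟨as, h3, h2, h1⟩
  have hK := ((isWeaklyRegular_dualPair hf as hmem n R K P).1).1 hreg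
  have h1 : (n : ℕ∞) ≤ LocCoh.depth R K := hlen ▸ DepthLib.length_le_idealDepth hK hmem
  have h2 := DepthLib.depth_le_supportDim (R := R) (M := K)
  have h3 : Module.supportDim R K ≤ n := (Module.supportDim_le_ringKrullDim R K).trans
    ((Module.supportDim_self_eq_ringKrullDim (R := R)).symm.trans P.supportDim_eq).le
  have h4 : Module.supportDim R K = n := le_antisymm h3 ((WithBot.coe_le_coe.2 h1).trans h2)
  refine ⟨?_, h4⟩
  rw [LocCoh.IsCohenMacaulayModule, h4]
  exact le_antisymm (WithBot.coe_le_coe.2 h1) (h4 ▸ h2)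

include hf P in
theorem injDim_canonMod :
    HasInjectiveDimensionLT (ModuleCat.of R K) (n + 1) ∧ ¬ HasInjectiveDimensionLT (ModuleCat.of R K) n := by
  haveI := P.nontrivial_K
  obtain ⟨D⟩ := dualityData hf P
  refine ⟨?_, fun h => ?_⟩
  swap
  · obtain ⟨e⟩ := D.duality n (ResidueField R) le_rfl
    rw [Nat.sub_self] at e
    have h0 : Subsingleton (Abelian.Ext (ModuleCat.of R (ResidueField R)) (ModuleCat.of R K) n) :=
      HasInjectiveDimensionLT.subsingleton (hX := h) _ n n le_rfl _
    have hk : LocCoh.IsPowerTorsion (maximalIdeal R) (ResidueField R) :=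
      fun x => ⟨1, fun a ha => residue_smul_eq_zero (by rwa [pow_one] at ha) x⟩
    let ψ : LocCoh.H (maximalIdeal R) 0 (ResidueField R) ≃ₗ[R] ResidueField R :=
      LinearEquiv.ofBijective (zeroMap (maximalIdeal R) (ResidueField R)) (zeroMap_bijective _ hk)
    haveI : Subsingleton (Abelian.Ext (ModuleCat.of R (ResidueField R)) (ModuleCat.of R K) n →ₗ[R] E) :=
      (GorenLib.subsingleton_dual_iff hf _).2 h0
    exact not_subsingleton (ResidueField R) ((e.trans ψ).symm.toEquiv.subsingleton)
  rcases n with _ | m
  · obtain ⟨e⟩ := P.2.2.2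
    refine GorenLib.hasInjectiveDimensionLT_of_residueField 0 fun i hi => ?_
    have hinj : Module.Injective R K := by
      have hd : ringKrullDim R = 0 := by
        rw [← Module.supportDim_self_eq_ringKrullDim]; exact P.supportDim_eq
      haveI : Ring.KrullDimLE 0 R := Ring.krullDimLE_iff.2 (by rw [hd]; simp)
      haveI : IsArtinianRing R := IsNoetherianRing.isArtinianRing_of_krullDimLE_zero
      have hT : LocCoh.IsPowerTorsion (maximalIdeal R) R := by
        obtain ⟨k, hk⟩ := IsArtinianRing.isNilpotent_jacobson_bot (R := R)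
        rw [IsLocalRing.jacobson_eq_maximalIdeal ⊥ bot_ne_top] at hk
        exact fun x => ⟨k, fun a ha => by rw [hk] at ha; rw [(Submodule.mem_bot R).1 ha, zero_smul]⟩
      let e₀ : (K →ₗ[R] E) ≃ₗ[R] R :=
        e ≪≫ₗ LinearEquiv.ofBijective (zeroMap (maximalIdeal R) R) (zeroMap_bijective _ hT)
      exact GorenLib.injective_of_equiv ((LinearEquiv.ofBijective _
        (applyₗ_bijective hf (isFiniteLength_of_finite_of_isArtinianRing K))) ≪≫ₗ
          LinearEquiv.congrLeft E R e₀ ≪≫ₗ LinearMap.ringLmapEquivSelf R R E).symm hf.isInjective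
    haveI := Module.injective_object_of_injective_module R K
    haveI : HasInjectiveDimensionLT (ModuleCat.of R K) 1 := inferInstance
    exact HasInjectiveDimensionLT.subsingleton (ModuleCat.of R K) 1 i hi _
  refine GorenLib.hasInjectiveDimensionLT_of_residueField (m + 1) fun i hi => ?_
  suffices H : ∀ i, m + 1 + 1 ≤ i → ∀ (M : Type u) [AddCommGroup M] [Module R M] [Module.Finite R M],
      Subsingleton (Abelian.Ext (ModuleCat.of R M) (ModuleCat.of R K) i) from H i hi (ResidueField R)
  intro i hi
  induction i, hi using Nat.le_induction with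
  | base =>
    intro M _ _ _
    obtain ⟨k, π, hπ⟩ := Module.Finite.exists_fin' R M
    have hS := shortExact_mk (LinearMap.ker π).subtype π (LinearMap.ker π).injective_subtype hπ
      (LinearMap.exact_subtype_ker_map π)
    haveI hP : Projective (ModuleCat.of R (Fin k → R)) := (IsProjective.iff_projective _).1 inferInstance
    obtain ⟨e⟩ := D.duality (m + 1) (LinearMap.ker π) le_rfl
    rw [Nat.sub_self] at e
    have h0 : Subsingleton (LocCoh.H (maximalIdeal R) 0 (LinearMap.ker π)) := by
      refine subsingleton_of_forall_eq 0 fun x => zeroMap_injective _ _ (Subtype.ext ?_)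
      rw [map_zero]
      have hF : powTors (maximalIdeal R) (Fin k → R) = ⊥ := by
        haveI := D.low_free k 0 (Nat.succ_pos m)
        rw [← range_zeroMap, LinearMap.range_eq_bot]
        exact Subsingleton.elim _ _
      have hx : zeroMap (maximalIdeal R) (LinearMap.ker π) x ∈ powTors (maximalIdeal R) (LinearMap.ker π) := by
        rw [← range_zeroMap]; exact ⟨x, rfl⟩
      have : ((zeroMap (maximalIdeal R) (LinearMap.ker π) x : LinearMap.ker π) : Fin k → R) ∈
          powTors (maximalIdeal R) (Fin k → R) :=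
        mem_powTors_iff.2 ((mem_powTors_iff.1 hx).imp fun j hj r hr => congrArg Subtype.val (hj r hr))
      rw [hF, Submodule.mem_bot] at this
      exact this
    have h1 : Subsingleton (Abelian.Ext (ModuleCat.of R (LinearMap.ker π)) (ModuleCat.of R K) (m + 1)) :=
      (GorenLib.subsingleton_dual_iff hf _).1 (e.toEquiv.subsingleton_congr.2 h0)
    refine subsingleton_of_forall_eq 0 fun x => ?_
    obtain ⟨y, hy⟩ := Abelian.Ext.contravariant_sequence_exact₃ hS (ModuleCat.of R K) x
      (Abelian.Ext.eq_zero_of_projective (P := ModuleCat.of R (Fin k → R)) _) (show 1 + (m + 1) = m + 1 + 1 by omega)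
    rw [← hy, show y = 0 from h1.elim _ _, Abelian.Ext.comp_zero]
    rfl
  | succ i hi ih =>
    intro M _ _ _
    obtain ⟨k, π, hπ⟩ := Module.Finite.exists_fin' R M
    have hS := shortExact_mk (LinearMap.ker π).subtype π (LinearMap.ker π).injective_subtype hπ
      (LinearMap.exact_subtype_ker_map π)
    haveI hP : Projective (ModuleCat.of R (Fin k → R)) := (IsProjective.iff_projective _).1 inferInstance
    refine subsingleton_of_forall_eq 0 fun x => ?_
    obtain ⟨j, rfl⟩ : ∃ j, i = j + 1 := ⟨i - 1, by omega⟩
    obtain ⟨y, hy⟩ := Abelian.Ext.contravariant_sequence_exact₃ hS (ModuleCat.of R K) x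
      (Abelian.Ext.eq_zero_of_projective (P := ModuleCat.of R (Fin k → R)) _) (show 1 + (j + 1) = j + 1 + 1 by omega)
    rw [← hy, show y = 0 from (ih (LinearMap.ker π)).elim _ _, Abelian.Ext.comp_zero]
    rfl

end Groth.Agent.CanonModLib
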