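import Groth.Agent.Lib.CanonMod.Exists27
import Groth.Agent.Lib.LocCoh.Nonvanish

/-!
# Localizations of canonical modules over quotients of Gorenstein local rings
-/

set_option autoImplicit false

universe u

open CategoryTheory IsLocalRing
open Groth.Agent.LocCohLib Groth.Agent.InjHullLib

noncomputable section

namespace Groth.Agent.CanonModLib

theorem isLocMap_nonempty_equiv {R : Type u} [CommRing R] {T : Submonoid R} {X Y : Type u} [AddCommGroup X] [Module R X]
    [AddCommGroup Y] [Module (Localization T) Y] {g : X →ₛₗ[algebraMap R (Localization T)] Y}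
    (h : ExtLoc.IsLocMap T g) : Nonempty (LocalizedModule T X ≃ₗ[Localization T] Y) := by
  letI : Module R Y := Module.compHom Y (algebraMap R (Localization T))
  haveI : IsScalarTower R (Localization T) Y := IsScalarTower.of_algebraMap_smul fun _ _ => rfl
  let g' : X →ₗ[R] Y := { toFun := g, map_add' := map_add g, map_smul' := fun r x => g.map_smulₛₗ r x }
  haveI : IsLocalizedModule T g' := by
    refine ⟨fun s => ?_, fun y => ?_, fun {x₁ x₂} e => ?_⟩
    · rw [Module.End.isUnit_iff]
      obtain ⟨u, hu⟩ := IsLocalization.map_units (Localization T) s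
      refine ⟨fun a b hab => ?_, fun y => ⟨(↑u⁻¹ : Localization T) • y, ?_⟩⟩
      · have h' : (u : Localization T) • a = (u : Localization T) • b := by rw [hu]; exact hab
        exact u.isUnit.smul_left_cancel.1 h'
      · change (algebraMap R (Localization T) s) • ((↑u⁻¹ : Localization T) • y) = y
        rw [← hu, smul_smul, Units.mul_inv, one_smul]
    · obtain ⟨x, s, hs⟩ := h.surj y
      exact ⟨⟨x, s⟩, hs.symm⟩
    · obtain ⟨s, hs⟩ := h.ker (x₁ - x₂) ((map_sub g _ _).trans (sub_eq_zero.2 e))
      exact ⟨s, sub_eq_zero.1 ((smul_sub _ _ _).symm.trans hs)⟩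
  exact ⟨(IsLocalizedModule.iso T g').extendScalarsOfIsLocalization T (Localization T)⟩

variable {S R : Type u} [CommRing S] [CommRing R] [Algebra S R] (hs : Function.Surjective (algebraMap S R))

include hs in
theorem nonempty_atPrime_equiv (M : Type u) [AddCommGroup M] [Module S M] [Module R M] [IsScalarTower S R M]
    (p : Ideal R) [p.IsPrime] (P : Ideal S) [P.IsPrime] (hP : P = p.comap (algebraMap S R))
    [Module (Localization.AtPrime P) (LocalizedModule p.primeCompl M)]
    [IsScalarTower S (Localization.AtPrime P) (LocalizedModule p.primeCompl M)] :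
    Nonempty (LocalizedModule P.primeCompl M ≃ₗ[Localization.AtPrime P] LocalizedModule p.primeCompl M) := by
  subst hP
  let g : M →ₗ[S] LocalizedModule p.primeCompl M := (LocalizedModule.mkLinearMap p.primeCompl M).restrictScalars S
  haveI : IsLocalizedModule (p.comap (algebraMap S R)).primeCompl g := by
    refine ⟨fun x => ?_, fun y => ?_, fun {x₁ x₂} e => ?_⟩
    · rw [Module.End.isUnit_iff]
      have hb := (Module.End.isUnit_iff _).1 (IsLocalizedModule.map_units
        (LocalizedModule.mkLinearMap p.primeCompl M) (⟨algebraMap S R x, x.2⟩ : p.primeCompl))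
      convert hb using 1
      funext z
      exact (algebraMap_smul R (x : S) z).symm
    · obtain ⟨⟨n, t⟩, hnt⟩ := IsLocalizedModule.surj p.primeCompl (LocalizedModule.mkLinearMap p.primeCompl M) y
      obtain ⟨a, ha⟩ := hs (t : R)
      refine ⟨⟨n, ⟨a, fun h => t.2 (ha ▸ h)⟩⟩, ?_⟩
      show a • y = _
      exact ((algebraMap_smul R a y).symm.trans (congrArg (· • y) ha)).trans hnt
    · obtain ⟨t, ht⟩ := IsLocalizedModule.exists_of_eq (S := p.primeCompl)
        (f := LocalizedModule.mkLinearMap p.primeCompl M) e
      obtain ⟨a, ha⟩ := hs (t : R)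
      refine ⟨⟨a, fun h => t.2 (ha ▸ h)⟩, ?_⟩
      show a • x₁ = a • x₂
      rw [← algebraMap_smul R a x₁, ← algebraMap_smul R a x₂, ha]
      exact ht
  exact ⟨(IsLocalizedModule.iso (p.comap (algebraMap S R)).primeCompl g).extendScalarsOfIsLocalization
    (p.comap (algebraMap S R)).primeCompl (Localization.AtPrime (p.comap (algebraMap S R)))⟩

variable [LocCoh.IsGorensteinLocalRing S] [IsNoetherianRing R] [IsLocalRing R]

theorem height_eq_natCast (p : Ideal R) [p.IsPrime] : ∃ h : ℕ, p.height = h :=
  ⟨p.height.toNat, (ENat.natCast_toNat (Ideal.height_ne_top (Ideal.IsPrime.ne_top ‹_›))).symm⟩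

theorem supportDim_localized_self (p : Ideal R) [p.IsPrime] :
    Module.supportDim (Localization.AtPrime p) (LocalizedModule p.primeCompl R) = p.height := by
  rw [Module.supportDim_eq_of_equiv ((IsLocalizedModule.iso p.primeCompl
      (Algebra.linearMap R (Localization.AtPrime p))).extendScalarsOfIsLocalization p.primeCompl (Localization.AtPrime p)),
    Module.supportDim_self_eq_ringKrullDim, IsLocalization.AtPrime.ringKrullDim_eq_height p]

include hs in
theorem height_comap_add {N e : ℕ} (hN : ringKrullDim S = N) (p : Ideal R) [p.IsPrime] (he : ringKrullDim (R ⧸ p) = e)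
    {hP : ℕ} (hhP : (p.comap (algebraMap S R)).height = hP) : N = e + hP :=
  GorenLib.height_add_dim hN _ ((ringKrullDim_eq_of_ringEquiv (RingEquiv.ofBijective
    (Ideal.quotientMap p (algebraMap S R) le_rfl) ⟨Ideal.quotientMap_injective, Ideal.quotientMap_surjective hs⟩)).trans he) hhP

include hs in
/-- The support of the canonical module. -/
theorem support_iff {N n : ℕ} (hN : ringKrullDim S = N) (hn : ringKrullDim R = n) (hnN : n ≤ N) (K : Type u)
    [AddCommGroup K] [Module R K] [Module S K] [IsScalarTower S R K]
    (eX : K ≃ₗ[S] Abelian.Ext (ModuleCat.of S R) (ModuleCat.of S S) (N - n)) (p : Ideal R) [p.IsPrime] :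
    (⟨p, inferInstance⟩ : PrimeSpectrum R) ∈ Module.support R K ↔
      (p.height : WithBot ℕ∞) + ringKrullDim (R ⧸ p) = n := by
  haveI : Module.Finite S R := Module.Finite.of_surjective (Algebra.linearMap S R) hs
  obtain ⟨h, hh⟩ := height_eq_natCast p
  obtain ⟨hP, hhP⟩ := GorenLib.exists_height_eq (p.comap (algebraMap S R))
  obtain ⟨e, he⟩ := DepthLib.exists_ringKrullDim_quotient_eq_natCast p (Ideal.IsPrime.ne_top ‹_›)
  have hsum := height_comap_add hs hN p he hhP
  have hle : h + e ≤ n := by
    have := DepthLib.supportDim_localizedModule_add_le (M := R) p (by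
      rw [Module.support_eq_zeroLocus, PrimeSpectrum.mem_zeroLocus]
      intro r hr
      have h1 := Module.mem_annihilator.1 hr 1
      rw [smul_eq_mul, mul_one] at h1
      exact h1 ▸ p.zero_mem)
    rw [supportDim_localized_self, hh, he, Module.supportDim_self_eq_ringKrullDim, hn] at this
    exact_mod_cast this
  have key : (∀ i : ℕ, i + (N - n) = hP → Subsingleton (LocCoh.H (maximalIdeal (Localization.AtPrime p)) i
      (LocalizedModule p.primeCompl R))) ↔ h + e ≠ n := by
    refine ⟨fun H hne => ?_, fun hne i hi => ?_⟩
    · haveI := H h (by omega)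
      haveI := (nontrivial_and_not_finite h (LocalizedModule p.primeCompl R)
        (by rw [supportDim_localized_self, hh]; rfl)).1
      exact not_subsingleton (LocCoh.H (maximalIdeal (Localization.AtPrime p)) h (LocalizedModule p.primeCompl R)) (H h (by omega))
    · refine subsingleton_of_supportDim_lt _ _ _ ?_
      rw [supportDim_localized_self, hh]
      exact_mod_cast (show h < i by omega)
  have hmem : (⟨p, inferInstance⟩ : PrimeSpectrum R) ∈ Module.support R K ↔
      ¬ ∀ i : ℕ, i + (N - n) = hP → Subsingleton (LocCoh.H (maximalIdeal (Localization.AtPrime p)) i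
        (LocalizedModule p.primeCompl R)) := by
    rw [← not_iff_not, not_not, Module.notMem_support_iff']
    simp only [GorenLib.subsingleton_H_at_surjective hs R p _ rfl]
    rw [← GorenLib.locally_zero_ext_iff (p.comap (algebraMap S R)) hhP R (N - n)]
    constructor
    · intro H x
      obtain ⟨r, hr, hrx⟩ := H (eX.symm x)
      obtain ⟨a, rfl⟩ := hs r
      exact ⟨a, hr, eX.symm.injective (by rw [map_smul, ← algebraMap_smul R a (eX.symm x), hrx, map_zero])⟩
    · intro H x
      obtain ⟨a, ha, hax⟩ := H (eX x)
      exact ⟨algebraMap S R a, ha, eX.injective (by rw [algebraMap_smul, map_smul, hax, map_zero])⟩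
  rw [hmem, key, not_not, hh, he]
  norm_cast

include hs in
/-- A canonical module localizes to a canonical module. -/
theorem localization_dual {N n : ℕ} (hN : ringKrullDim S = N) (hn : ringKrullDim R = n) (hnN : n ≤ N) (K : Type u)
    [AddCommGroup K] [Module R K] [Module S K] [IsScalarTower S R K]
    (eX : K ≃ₗ[S] Abelian.Ext (ModuleCat.of S R) (ModuleCat.of S S) (N - n)) (p : Ideal R) [p.IsPrime]
    (hp : (⟨p, inferInstance⟩ : PrimeSpectrum R) ∈ Module.support R K) {h : ℕ}
    (hh : ringKrullDim (Localization.AtPrime p) = h) {E' : Type u} [AddCommGroup E'] [Module (Localization.AtPrime p) E']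
    {f' : ResidueField (Localization.AtPrime p) →ₗ[Localization.AtPrime p] E'} (hf' : InjHull.IsInjectiveHull f') :
    Nonempty ((LocalizedModule p.primeCompl K →ₗ[Localization.AtPrime p] E') ≃ₗ[Localization.AtPrime p]
      LocCoh.H (maximalIdeal (Localization.AtPrime p)) h (Localization.AtPrime p)) := by
  haveI : Module.Finite S R := Module.Finite.of_surjective (Algebra.linearMap S R) hs
  obtain ⟨hP, hhP⟩ := GorenLib.exists_height_eq (p.comap (algebraMap S R))
  obtain ⟨e, he⟩ := DepthLib.exists_ringKrullDim_quotient_eq_natCast p (Ideal.IsPrime.ne_top ‹_›)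
  have hsum := height_comap_add hs hN p he hhP
  have hpe := (support_iff hs hN hn hnN K eX p).1 hp
  rw [IsLocalization.AtPrime.ringKrullDim_eq_height p] at hh
  rw [hh, he] at hpe
  have hpe' : h + e = n := by exact_mod_cast hpe
  let q := p.comap (algebraMap S R)
  haveI := GorenLib.gorenstein_atPrime q
  let φ : Localization.AtPrime q →+* Localization.AtPrime p := Localization.localRingHom q p (algebraMap S R) rfl
  letI : Algebra (Localization.AtPrime q) (Localization.AtPrime p) := φ.toAlgebra
  have hφs : Function.Surjective (algebraMap (Localization.AtPrime q) (Localization.AtPrime p)) := by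
    intro y
    obtain ⟨b, s, rfl⟩ := IsLocalization.exists_mk'_eq p.primeCompl y
    obtain ⟨a, rfl⟩ := hs b
    obtain ⟨t, ht⟩ := hs (s : R)
    refine ⟨IsLocalization.mk' _ a (⟨t, fun h => s.2 (ht ▸ h)⟩ : q.primeCompl), ?_⟩
    change φ _ = _
    rw [Localization.localRingHom_mk']
    congr 1
    exact Subtype.ext ht
  letI : Module (Localization.AtPrime q) (LocalizedModule p.primeCompl K) := Module.compHom _ φ
  haveI : IsScalarTower (Localization.AtPrime q) (Localization.AtPrime p) (LocalizedModule p.primeCompl K) :=
    IsScalarTower.of_algebraMap_smul fun _ _ => rfl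
  haveI : IsScalarTower S (Localization.AtPrime q) (LocalizedModule p.primeCompl K) :=
    IsScalarTower.of_algebraMap_smul fun a z => by
      change φ (algebraMap S _ a) • z = a • z
      rw [Localization.localRingHom_to_map, algebraMap_smul, algebraMap_smul]
  letI : Module (Localization.AtPrime q) (LocalizedModule p.primeCompl R) := Module.compHom _ φ
  haveI : IsScalarTower (Localization.AtPrime q) (Localization.AtPrime p) (LocalizedModule p.primeCompl R) :=
    IsScalarTower.of_algebraMap_smul fun _ _ => rfl
  haveI : IsScalarTower S (Localization.AtPrime q) (LocalizedModule p.primeCompl R) :=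
    IsScalarTower.of_algebraMap_smul fun a z => by
      change φ (algebraMap S _ a) • z = a • z
      rw [Localization.localRingHom_to_map, algebraMap_smul, algebraMap_smul]
  obtain ⟨iK⟩ := nonempty_atPrime_equiv hs K p q rfl
  obtain ⟨iR⟩ := nonempty_atPrime_equiv hs R p q rfl
  obtain ⟨g, hg⟩ := ExtLoc.exists_isLocMap q.primeCompl (N := S) (N - n) R
  obtain ⟨iX⟩ := isLocMap_nonempty_equiv hg
  let eS : LocalizedModule q.primeCompl S ≃ₗ[Localization.AtPrime q] Localization.AtPrime q :=
    (IsLocalizedModule.iso q.primeCompl (Algebra.linearMap S (Localization.AtPrime q))).extendScalarsOfIsLocalization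
      q.primeCompl (Localization.AtPrime q)
  let eR : LocalizedModule p.primeCompl R ≃ₗ[Localization.AtPrime p] Localization.AtPrime p :=
    (IsLocalizedModule.iso p.primeCompl (Algebra.linearMap R (Localization.AtPrime p))).extendScalarsOfIsLocalization
      p.primeCompl (Localization.AtPrime p)
  let u := iR ≪≫ₗ eR.restrictScalars (Localization.AtPrime q)
  let ee := (((extMod (R := Localization.AtPrime q) (N - n)).obj (Opposite.op (ModuleCat.of _ (LocalizedModule q.primeCompl R)))).mapIso
      eS.toModuleIso).toLinearEquiv ≪≫ₗ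
    (((extMod (R := Localization.AtPrime q) (N - n)).mapIso u.symm.toModuleIso.symm.op.symm).app
      (ModuleCat.of (Localization.AtPrime q) (Localization.AtPrime q))).toLinearEquiv
  have hd : ringKrullDim (Localization.AtPrime q) = hP := by
    rw [IsLocalization.AtPrime.ringKrullDim_eq_height q, hhP]; rfl
  have hh2 : h ≤ hP := by omega
  refine dual_equiv_H hφs hf' hd hh2 (LocalizedModule p.primeCompl K) ?_
  rw [show hP - h = N - n by omega]
  exact iK.symm ≪≫ₗ IsLocalizedModule.mapEquiv q.primeCompl (LocalizedModule.mkLinearMap q.primeCompl K)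
    (LocalizedModule.mkLinearMap q.primeCompl _) (Localization.AtPrime q) eX ≪≫ₗ iX ≪≫ₗ ee

end Groth.Agent.CanonModLib
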