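import Groth.Agent.Lib.CanonMod.Exists27
import Groth.Agent.Lib.CanonMod.InjDim27
import Groth.Agent.Lib.CanonMod.General27
import Groth.Agent.Lib.Dlz27.Refl
import Groth.Agent.S0342
import Groth.Agent.S7703
import Mathlib.RingTheory.UniqueFactorizationDomain.Kaplansky
import Mathlib.RingTheory.UniqueFactorizationDomain.Ideal

/-!
# Cohen-Macaulay factorial quotients of regular rings are Gorenstein
-/

set_option autoImplicit false
universe u

open CategoryTheory IsLocalRing

noncomputable section

namespace Groth.Agent.CanonModLib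

variable {A : Type u} [CommRing A] [IsNoetherianRing A] [IsDomain A]

theorem exists_ideal_no_prime [UniqueFactorizationMonoid A] (a : A) (ha : a ≠ 0) : ∀ I : Ideal A, a ∈ I →
    ∃ J : Ideal A, Nonempty (I ≃ₗ[A] J) ∧ (∀ q : A, Prime q → ¬ J ≤ Ideal.span {q}) ∧ J ≠ ⊥ := by
  revert ha
  refine (wellFounded_dvdNotUnit (α := A)).induction (C := fun a => a ≠ 0 → ∀ I : Ideal A, a ∈ I →
    ∃ J : Ideal A, Nonempty (I ≃ₗ[A] J) ∧ (∀ q : A, Prime q → ¬ J ≤ Ideal.span {q}) ∧ J ≠ ⊥) a
    fun a ih ha I haI => ?_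
  ·
    by_cases h : ∀ q : A, Prime q → ¬ I ≤ Ideal.span {q}
    · exact ⟨I, ⟨LinearEquiv.refl A I⟩, h, fun h0 => ha (by simpa [h0] using haI)⟩
    push Not at h
    obtain ⟨q, hq, hIq⟩ := h
    obtain ⟨a', rfl⟩ := Ideal.mem_span_singleton.1 (hIq haI)
    let μ : A →ₗ[A] A := q • LinearMap.id
    let I' : Ideal A := Submodule.comap μ I
    have hmem : a' ∈ I' := haI
    obtain ⟨J, ⟨e⟩, hJ, hJ0⟩ := ih a' ⟨right_ne_zero_of_mul ha, q, hq.not_isUnit, mul_comm q a'⟩
      (right_ne_zero_of_mul ha) I' hmem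
    let m : I' →ₗ[A] I := μ.restrict fun x hx => hx
    have hm : Function.Bijective m := by
      refine ⟨fun x y hxy => Subtype.ext (mul_left_cancel₀ hq.ne_zero (congrArg Subtype.val hxy)), fun x => ?_⟩
      obtain ⟨y, hy⟩ := Ideal.mem_span_singleton.1 (hIq x.2)
      exact ⟨⟨y, show q * y ∈ I from hy ▸ x.2⟩, Subtype.ext hy.symm⟩
    exact ⟨J, ⟨(LinearEquiv.ofBijective m hm).symm ≪≫ₗ e⟩, hJ, hJ0⟩

theorem two_le_height_of_no_prime [UniqueFactorizationMonoid A] (J : Ideal A) (hJ : J ≠ ⊥)
    (h : ∀ q : A, Prime q → ¬ J ≤ Ideal.span {q}) (p : PrimeSpectrum A) (hp : J ≤ p.asIdeal) :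
    (2 : ℕ∞) ≤ p.asIdeal.height := by
  have hp0 : p.asIdeal ≠ ⊥ := fun h0 => hJ (le_bot_iff.1 (hp.trans h0.le))
  obtain ⟨q, hqp, hq⟩ := p.isPrime.exists_mem_prime_of_ne_bot hp0
  haveI : (Ideal.span {q}).IsPrime := (Ideal.span_singleton_prime hq.ne_zero).2 hq
  have hlt : Ideal.span {q} < p.asIdeal := lt_of_le_of_ne ((Ideal.span_singleton_le_iff_mem _).2 hqp)
    fun e => h q hq (hp.trans e.ge)
  have hlt0 : (⊥ : Ideal A) < Ideal.span {q} := bot_lt_iff_ne_bot.2 (by simpa using hq.ne_zero)
  have h1 := Ideal.height_add_one_le_of_lt_of_isPrime hlt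
  have h2 := Ideal.height_add_one_le_of_lt_of_isPrime hlt0
  calc (2 : ℕ∞) = 0 + 1 + 1 := rfl
    _ ≤ (⊥ : Ideal A).height + 1 + 1 := by gcongr; exact zero_le
    _ ≤ (Ideal.span {q}).height + 1 := by gcongr
    _ ≤ _ := h1

omit [IsDomain A] in
theorem min_le_supportDim_localized_of_injective (J : Type u) [AddCommGroup J] [Module A J] [Module.Finite A J]
    (f : A →ₗ[A] J) (hf : Function.Injective f) (p : PrimeSpectrum A) :
    (p.asIdeal.height : WithBot ℕ∞) ≤
      Module.supportDim (Localization.AtPrime p.asIdeal) (LocalizedModule p.asIdeal.primeCompl J) := by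
  rw [← DepthLib.supportDim_eq_ringKrullDim_of_isPrime]
  exact Module.supportDim_le_of_injective _ (LocalizedModule.map_injective p.asIdeal.primeCompl f hf)

/-- A module with scalar endomorphisms and `(S_2)` over a factorial domain is free of rank one. -/
theorem nonempty_equiv_self [UniqueFactorizationMonoid A] (K : Type u) [AddCommGroup K] [Module A K] [Module.Finite A K]
    (hend : Function.Bijective (fun r : A => r • (LinearMap.id : K →ₗ[A] K))) (hS : LocCoh.HasSk 2 A K) :
    Nonempty (A ≃ₗ[A] K) := by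
  classical
  -- the localizations of `K` have full dimension
  have hdim : ∀ p : PrimeSpectrum A, (p.asIdeal.height : WithBot ℕ∞) ≤
      Module.supportDim (Localization.AtPrime p.asIdeal) (LocalizedModule p.asIdeal.primeCompl K) := fun p => by
    let S := p.asIdeal.primeCompl
    haveI : Module.Finite (Localization.AtPrime p.asIdeal) (LocalizedModule S K) :=
      Module.Finite.of_isLocalizedModule S (LocalizedModule.mkLinearMap S K)
    rw [← DepthLib.supportDim_eq_ringKrullDim_of_isPrime]
    refine Order.krullDim_le_of_strictMono (fun x => ⟨x.1, ?_⟩) fun _ _ h => h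
    rw [Module.mem_support_iff_of_finite]
    intro c hc
    obtain ⟨a, t, rfl⟩ := IsLocalization.exists_mk'_eq S c
    obtain ⟨m, v, hv⟩ := Module.Finite.exists_fin (R := A) (M := K)
    have key : ∀ l, ∃ w : S, (w : A) • a • v l = 0 := fun l => by
      have h := Module.mem_annihilator.1 hc (LocalizedModule.mk (v l) 1)
      have h2 : algebraMap A (Localization.AtPrime p.asIdeal) a • LocalizedModule.mk (v l) (1 : S) = 0 := by
        rw [← IsLocalization.mk'_spec (Localization.AtPrime p.asIdeal) a t, mul_comm, mul_smul, h, smul_zero]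
      rw [algebraMap_smul, LocalizedModule.smul'_mk, ← LocalizedModule.zero_mk (S := S) 1, LocalizedModule.mk_eq] at h2
      obtain ⟨w, hw⟩ := h2
      exact ⟨w, by simpa [Submonoid.smul_def] using hw⟩
    choose w hw using key
    have h0 : (∏ l, (w l : A)) * a = 0 := hend.1 (LinearMap.ext_on_range hv fun l => by
      show ((∏ l, (w l : A)) * a) • v l = (0 : A) • v l
      obtain ⟨e, he⟩ := Finset.dvd_prod_of_mem (fun y => (w y : A)) (Finset.mem_univ l)
      rw [he, zero_smul, mul_assoc, mul_comm e, ← mul_assoc, mul_comm, mul_smul, mul_smul, hw, smul_zero])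
    have ha : a = 0 := (mul_eq_zero.1 h0).resolve_left
      (Finset.prod_ne_zero_iff.2 fun l _ h => (w l).2 (h ▸ p.asIdeal.zero_mem))
    rw [ha, IsLocalization.mk'_zero]
    exact zero_mem _
  -- torsion free
  have htf : ∀ (c : A) (x : K), c • x = 0 → c = 0 ∨ x = 0 := by
    intro c x hcx
    by_contra hne
    push Not at hne
    obtain ⟨P, hP, hle⟩ := exists_le_isAssociatedPrime_of_isNoetherianRing A x hne.2
    haveI := hP.isPrime
    have hcP : c ∈ P := hle (by rw [Submodule.mem_colon_singleton, Submodule.mem_bot]; exact hcx)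
    let Q : PrimeSpectrum A := ⟨P, inferInstance⟩
    haveI : Module.Finite (Localization.AtPrime P) (LocalizedModule P.primeCompl K) :=
      Module.Finite.of_isLocalizedModule P.primeCompl (LocalizedModule.mkLinearMap P.primeCompl K)
    have h0 : LocCoh.depth (Localization.AtPrime P) (LocalizedModule P.primeCompl K) = 0 :=
      Depth3.depth_eq_zero_iff.2
        (Module.associatedPrimes.mem_associatedPrimes_atPrime_of_mem_associatedPrimes hP)
    have h1 := hS P
    rw [h0] at h1
    have h2 : (1 : ℕ∞) ≤ P.height := by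
      refine Order.one_le_iff_ne_zero.2 fun h => ?_
      have := Ideal.height_eq_zero_iff.1 h
      rw [IsDomain.minimalPrimes_eq_singleton_bot] at this
      exact hne.1 (Ideal.mem_bot.1 ((Set.mem_singleton_iff.1 this) ▸ hcP))
    have h3 : ((1 : ℕ∞) : WithBot ℕ∞) ≤ 0 :=
      le_trans (le_min (by exact_mod_cast one_le_two) ((WithBot.coe_le_coe.2 h2).trans (hdim Q))) h1
    exact absurd h3 (by decide)
  -- an embedding
  obtain ⟨φ, hφ⟩ : ∃ φ : K →ₗ[A] A, φ ≠ 0 := by
    let S := nonZeroDivisors A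
    let F := Localization S
    letI : Field F := IsFractionRing.toField A
    haveI : Nontrivial (LocalizedModule S K) := by
      by_contra h
      rw [not_nontrivial_iff_subsingleton, LocalizedModule.subsingleton_iff] at h
      choose s hs hs0 using h
      have hall : ∀ x : K, x = 0 := fun x => (htf _ _ (hs0 x)).resolve_left (nonZeroDivisors.ne_zero (hs x))
      exact one_ne_zero (hend.1 (LinearMap.ext fun x => by rw [hall x, map_zero, map_zero]))
    obtain ⟨v, hv⟩ := exists_ne (0 : LocalizedModule S K)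
    obtain ⟨χ, hχ⟩ : ∃ χ : Module.Dual F (LocalizedModule S K), χ v ≠ 0 := by
      by_contra h
      push Not at h
      exact hv ((Module.forall_dual_apply_eq_zero_iff F v).1 h)
    obtain ⟨φ, s, hφ⟩ := Module.FinitePresentation.exists_lift_of_isLocalizedModule S (Algebra.linearMap A F)
      (χ.restrictScalars A ∘ₗ LocalizedModule.mkLinearMap S K) (h := Module.finitePresentation_of_finite A K)
    refine ⟨φ, fun h0 => hχ ?_⟩
    induction v using LocalizedModule.induction_on with
    | h z t =>
      have h1 := LinearMap.congr_fun hφ z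
      rw [h0, LinearMap.comp_zero, LinearMap.zero_apply, LinearMap.smul_apply, Submonoid.smul_def, LinearMap.comp_apply,
        LinearMap.restrictScalars_apply] at h1
      have h2 : algebraMap A F s * (algebraMap A F t * χ (LocalizedModule.mk z t)) = 0 := by
        rw [← Algebra.smul_def, ← Algebra.smul_def, ← LinearMap.map_smul_of_tower, LocalizedModule.smul'_mk,
          show LocalizedModule.mk ((t : A) • z) t = LocalizedModule.mkLinearMap S K z from LocalizedModule.mk_cancel t z]
        exact h1.symm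
      rcases mul_eq_zero.1 h2 with h3 | h3
      · exact absurd h3 (IsLocalization.map_units F s).ne_zero
      · exact (mul_eq_zero.1 h3).resolve_left (IsLocalization.map_units F t).ne_zero
  have hinj : Function.Injective φ := by
    rw [injective_iff_map_eq_zero]
    intro z hz
    by_contra hz0
    refine hφ (LinearMap.ext fun x => ?_)
    obtain ⟨c, hc⟩ := hend.2 (φ.smulRight z)
    have h1 : c • z = 0 := (LinearMap.congr_fun hc z).trans (by simp [hz])
    have h2 : φ.smulRight z x = 0 := by
      rw [← hc, (htf c z h1).resolve_right hz0]; simp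
    exact ((htf _ _ h2).resolve_right hz0)
  obtain ⟨w, hw⟩ : ∃ w, φ w ≠ 0 := by
    by_contra h; push Not at h; exact hφ (LinearMap.ext h)
  obtain ⟨J, ⟨e⟩, hJ, hJ0⟩ := exists_ideal_no_prime (φ w) hw (LinearMap.range φ) ⟨w, rfl⟩
  let eKJ : K ≃ₗ[A] J := LinearEquiv.ofInjective φ hinj ≪≫ₗ e
  obtain ⟨j, hj, hj0⟩ := Submodule.exists_mem_ne_zero_of_ne_bot hJ0
  have hS' : LocCoh.HasSk 2 A J := DepthLib.hasSk_congr eKJ hS
  have hJd : ((2 : ℕ) : ℕ∞) ≤ LocCoh.idealDepth J (J : Type u) := by
    refine (DepthLib.natCast_le_idealDepth_iff_forall_localized 2).2 fun p hp => ?_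
    have h1 := hS' p.asIdeal
    have hf : Function.Injective (LinearMap.toSpanSingleton A J ⟨j, hj⟩) := fun a b hab =>
      mul_right_cancel₀ hj0 (congrArg Subtype.val hab)
    have h2 : ((2 : ℕ∞) : WithBot ℕ∞) ≤
        Module.supportDim (Localization.AtPrime p.asIdeal) (LocalizedModule p.asIdeal.primeCompl J) :=
      (WithBot.coe_le_coe.2 (two_le_height_of_no_prime J hJ0 hJ p hp)).trans
        (min_le_supportDim_localized_of_injective _ _ hf p)
    rw [min_eq_left (le_of_eq_of_le (by rfl) h2)] at h1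
    exact WithBot.coe_le_coe.1 (le_of_eq_of_le (by rfl) h1)
  have hA1 : (1 : ℕ∞) ≤ LocCoh.idealDepth J A :=
    DepthLib.one_le_idealDepth_of_regular hj (IsSMulRegular.of_ne_zero hj0)
  have hbij := Dlz27.bijective_of_two_le_idealDepth J hJd hA1 J.subtype fun p hp => by
    refine ⟨LocalizedModule.map_injective _ _ J.injective_subtype, fun z => ?_⟩
    obtain ⟨c, hc, hcp⟩ := SetLike.not_le_iff_exists.1 hp
    induction z using LocalizedModule.induction_on with
    | h x s =>
      refine ⟨LocalizedModule.mk (⟨c * x, J.mul_mem_right x hc⟩ : J) (⟨c, hcp⟩ * s), ?_⟩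
      rw [LocalizedModule.map_mk, LocalizedModule.mk_eq]
      exact ⟨1, by simp [Submonoid.smul_def, mul_comm, mul_left_comm]⟩
  exact ⟨(LinearEquiv.ofBijective J.subtype hbij).symm ≪≫ₗ eKJ.symm⟩

/-- Murthy's theorem. -/
theorem isGorenstein_quotient_of_ufd (B : Type u) [CommRing B] [IsRegularLocalRing B] (p : Ideal B) [p.IsPrime]
    [UniqueFactorizationMonoid (B ⧸ p)] [LocCoh.IsCohenMacaulayLocalRing (B ⧸ p)] :
    LocCoh.IsGorensteinLocalRing (B ⧸ p) := by
  haveI : LocCoh.IsGorensteinLocalRing B := S0342.result B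
  obtain ⟨N, hN⟩ := DepthLib.exists_supportDim_eq_natCast (R := B) (M := B)
  rw [Module.supportDim_self_eq_ringKrullDim] at hN
  obtain ⟨n, hn⟩ := DepthLib.exists_supportDim_eq_natCast (R := B ⧸ p) (M := B ⧸ p)
  rw [Module.supportDim_self_eq_ringKrullDim] at hn
  have hnN : n ≤ N := by
    have h := ringKrullDim_le_of_surjective (Ideal.Quotient.mk p) Ideal.Quotient.mk_surjective
    rw [hN, hn] at h
    exact_mod_cast h
  obtain ⟨E, _, _, f, hf⟩ := InjHullLib.exists_injective_hull (B ⧸ p) (ResidueField (B ⧸ p))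
  obtain ⟨K, _, _, hK, ⟨eK⟩, -⟩ := exists_canonMod (S := B) (R := B ⧸ p)
    (Ideal.Quotient.mk_surjective : Function.Surjective (Ideal.Quotient.mk p)) hf hN hnN
  haveI := hK
  obtain ⟨e⟩ := nonempty_equiv_self (A := B ⧸ p) K (S7703.result _ n hn E f hf K eK)
    (hasSk_two_canonMod hf eK hn)
  obtain ⟨hinj, -⟩ := injDim_canonMod hf (dualPair_self hn eK)
  haveI := hinj
  exact { exists_hasInjectiveDimensionLT := ⟨n + 1, (hasInjectiveDimensionLT_of_iso (e.symm.toModuleIso :
    ModuleCat.of (B ⧸ p) K ≅ ModuleCat.of (B ⧸ p) (B ⧸ p)) (n + 1))⟩ }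

end Groth.Agent.CanonModLib
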