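import Groth.Agent.Lib.CanonMod.Completion27
import Groth.Agent.Lib.CanonMod.Elem

/-!
# The dual of top local cohomology of a module
-/

set_option autoImplicit false

universe u

open CategoryTheory IsLocalRing
open Groth.Agent.LocCohLib Groth.Agent.InjHullLib

noncomputable section

namespace Groth.Agent.CanonModLib

variable {R : Type u} [CommRing R] [IsNoetherianRing R] [IsLocalRing R]
  {E : Type u} [AddCommGroup E] [Module R E] {f : ResidueField R →ₗ[R] E} (hf : InjHull.IsInjectiveHull f)
  (M : Type u) [AddCommGroup M] [Module R M] [Module.Finite R M] {n : ℕ}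

omit [IsLocalRing R] in
/-- A prime of maximal coheight in the support is minimal. -/
theorem le_of_le_of_coheight {p q : Ideal R} [p.IsPrime] [q.IsPrime] (hn : Module.supportDim R M = n)
    (hq : Module.annihilator R M ≤ q) (hqp : q ≤ p) (hp : ringKrullDim (R ⧸ p) = n) : p ≤ q := by
  by_contra hne
  have hlt : (⟨q, inferInstance⟩ : PrimeSpectrum R) < ⟨p, inferInstance⟩ :=
    lt_of_le_of_ne hqp fun he => hne (congrArg PrimeSpectrum.asIdeal he).ge
  have h1 : ringKrullDim (R ⧸ q) ≤ n := hn ▸ DepthLib.ringKrullDim_quotient_le_supportDim (M := M) (p := q) (by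
    rw [Module.support_eq_zeroLocus, PrimeSpectrum.mem_zeroLocus]; exact hq)
  rw [ringKrullDim_quotient] at h1 hp
  obtain ⟨l, hl⟩ := (Order.le_krullDim_iff (n := n)).1 hp.ge
  let l' : LTSeries (PrimeSpectrum.zeroLocus (R := R) (q : Set R)) :=
    (l.map (fun x => (⟨x.1, fun a ha => x.2 (hqp ha)⟩ : PrimeSpectrum.zeroLocus (R := R) (q : Set R)))
      (fun _ _ h => h)).cons ⟨⟨q, inferInstance⟩, fun _ h => h⟩ (show (⟨q, inferInstance⟩ : PrimeSpectrum R) < l.head.1 from
        hlt.trans_le (show p ≤ l.head.1.asIdeal from l.head.2))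
  have h2 := (Order.LTSeries.length_le_krullDim l').trans h1
  have h3 : l'.length ≤ n := by exact_mod_cast h2
  simp [l', RelSeries.cons, RelSeries.append, LTSeries.map] at h3
  omega

omit [IsLocalRing R] in
theorem exists_mem_supportDim_quot_lt (hn : Module.supportDim R M = n) (p : Ideal R) [p.IsPrime]
    (hp : Module.annihilator R M ≤ p) (hlt : ringKrullDim (R ⧸ p) < n) :
    ∃ a ∈ p, Module.supportDim R (M ⧸ LinearMap.range (a • (LinearMap.id : M →ₗ[R] M))) < n := by
  have hS : {q ∈ (Module.annihilator R M).minimalPrimes | ringKrullDim (R ⧸ q) = n}.Finite :=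
    (Ideal.finite_minimalPrimes_of_isNoetherianRing R _).subset fun q hq => hq.1
  have hnot : ¬ ((p : Set R) ⊆ ⋃ q ∈ (hS.toFinset : Set (Ideal R)), (q : Set R)) := by
    rw [Ideal.subset_union_prime p p (fun q hq _ _ => ((hS.mem_toFinset).1 hq).1.1.1)]
    rintro ⟨q, hq, hpq⟩
    obtain ⟨hqmin, hqd⟩ := hS.mem_toFinset.1 hq
    rw [le_antisymm hpq (hqmin.2 ⟨inferInstance, hp⟩ hpq), hqd] at hlt
    exact lt_irrefl _ hlt
  obtain ⟨a, hap, ha⟩ := Set.not_subset.1 hnot
  refine ⟨a, hap, lt_of_le_of_lt (supportDim_le_of_annihilated (Module.annihilator R M ⊔ Ideal.span {a}) fun c hc z => ?_) ?_⟩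
  · obtain ⟨z, rfl⟩ := Submodule.Quotient.mk_surjective _ z
    obtain ⟨c₁, h₁, c₂, h₂, rfl⟩ := Submodule.mem_sup.1 hc
    obtain ⟨d, rfl⟩ := Ideal.mem_span_singleton.1 h₂
    rw [add_smul, mul_comm a d, mul_smul]
    refine (congrArg₂ (· + ·) ?_ ((congrArg (d • ·) (smul_mem_range_smul a M _)).trans (smul_zero d))).trans (add_zero 0)
    rw [← Submodule.Quotient.mk_smul, Module.mem_annihilator.1 h₁, Submodule.Quotient.mk_zero]
  · refine lt_of_not_ge fun hge => ha ?_
    rw [ringKrullDim_quotient] at hge
    obtain ⟨l, hl⟩ := (Order.le_krullDim_iff (n := n)).1 hge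
    have hann : Module.annihilator R M ≤ l.head.1.asIdeal := fun x hx => l.head.2 (Ideal.mem_sup_left hx)
    obtain ⟨q, hq, hql⟩ := Ideal.exists_minimalPrimes_le hann
    haveI := hq.1.1
    have hld : ringKrullDim (R ⧸ l.head.1.asIdeal) = n := by
      refine le_antisymm (hn ▸ DepthLib.ringKrullDim_quotient_le_supportDim (M := M) (p := l.head.1.asIdeal) (by
        rw [Module.support_eq_zeroLocus, PrimeSpectrum.mem_zeroLocus]; exact hann)) ?_
      rw [ringKrullDim_quotient]
      let l' : LTSeries (PrimeSpectrum.zeroLocus (R := R) (l.head.1.asIdeal : Set R)) :=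
        ⟨l.length, fun i => ⟨(l i).1, show l.head.1.asIdeal ≤ (l i).1.asIdeal from l.head_le i⟩, fun i => l.step i⟩
      exact le_of_eq_of_le (by rw [← hl]) (Order.LTSeries.length_le_krullDim l')
    have hle := le_of_le_of_coheight M hn hq.1.2 hql hld
    refine Set.mem_biUnion (hS.mem_toFinset.2 ⟨hq, ?_⟩) (hle (l.head.2 (Ideal.mem_sup_right (Ideal.mem_span_singleton_self a))))
    rw [show q = l.head.1.asIdeal from le_antisymm hql hle]
    exact hld

omit [IsNoetherianRing R] [IsLocalRing R] [Module.Finite R M] in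
theorem annihilator_le_annihilator_H (I : Ideal R) (i : ℕ) :
    Module.annihilator R M ≤ Module.annihilator R (LocCoh.H I i M) := by
  intro r hr
  have h0 : r • (LinearMap.id : M →ₗ[R] M) = 0 := LinearMap.ext fun x => Module.mem_annihilator.1 hr x
  have h := congrArg (hmap I i) h0
  rw [hmap_smul, hmap_id, ← zero_smul R (LinearMap.id : M →ₗ[R] M), hmap_smul, zero_smul] at h
  exact Module.mem_annihilator.2 fun z => LinearMap.congr_fun h z

omit [IsNoetherianRing R] in
/-- Associated primes of the dual of top local cohomology have maximal coheight. -/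
theorem associatedPrime_dual_top [IsNoetherianRing R] (hn : Module.supportDim R M = n) (I : Ideal R) {p : Ideal R}
    (hp : p ∈ associatedPrimes R (LocCoh.H I n M →ₗ[R] E)) :
    Module.annihilator R M ≤ p ∧ ringKrullDim (R ⧸ p) = n := by
  haveI := hp.isPrime
  have h1 : Module.annihilator R M ≤ p := by
    intro r hr
    obtain ⟨_, x, hx⟩ := isAssociatedPrime_iff.1 hp
    rw [hx, Submodule.mem_colon_singleton, Submodule.mem_bot]
    refine LinearMap.ext fun z => ?_
    rw [LinearMap.smul_apply, ← map_smul, Module.mem_annihilator.1 (annihilator_le_annihilator_H M I n hr), map_zero]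
    rfl
  refine ⟨h1, le_antisymm ?_ ?_⟩
  · exact hn ▸ DepthLib.ringKrullDim_quotient_le_supportDim (M := M) (p := p) (by
      rw [Module.support_eq_zeroLocus, PrimeSpectrum.mem_zeroLocus]; exact h1)
  · by_contra hlt
    obtain ⟨a, hap, ha⟩ := exists_mem_supportDim_quot_lt M hn p h1 (lt_of_not_ge hlt)
    obtain ⟨_, x, hx⟩ := isAssociatedPrime_iff.1 hp
    have hreg : IsSMulRegular (LocCoh.H I n M →ₗ[R] E) a := by
      rw [isSMulRegular_iff_right_eq_zero_of_smul]
      intro φ hφ
      refine LinearMap.ext fun z => ?_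
      obtain ⟨w, rfl⟩ := smul_H_surjective (I := I) hn.le a ha z
      rw [map_smul]
      exact LinearMap.congr_fun hφ w
    have hx0 : x ≠ 0 := by
      rintro rfl
      refine hp.isPrime.ne_top (top_le_iff.1 fun r _ => ?_)
      rw [hx, Submodule.mem_colon_singleton, smul_zero]
      exact zero_mem _
    refine hx0 (hreg.right_eq_zero_of_smul ?_)
    have := hap
    rw [hx, Submodule.mem_colon_singleton, Submodule.mem_bot] at this
    exact this

include hf in
theorem mem_support_dual_top (hn : Module.supportDim R M = n) (p : Ideal R) [p.IsPrime]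
    (hp : Module.annihilator R M ≤ p) (hpd : ringKrullDim (R ⧸ p) = n) :
    Module.annihilator R (LocCoh.H (maximalIdeal R) n M →ₗ[R] E) ≤ p := by
  intro s hs
  by_contra hsp
  let N : Submodule R M := p • ⊤
  have hdim : Module.supportDim R (M ⧸ N) = n := by
    refine le_antisymm ((Module.supportDim_le_of_surjective N.mkQ N.mkQ_surjective).trans hn.le) (hpd.ge.trans ?_)
    exact DepthLib.ringKrullDim_quotient_le_supportDim_quotient (p := p)
      (by rw [Module.support_eq_zeroLocus, PrimeSpectrum.mem_zeroLocus]; exact hp) le_rfl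
  haveI := (nontrivial_and_not_finite n (M ⧸ N) hdim).1
  obtain ⟨w, hw⟩ := exists_ne (0 : LocCoh.H (maximalIdeal R) n (M ⧸ N))
  have hlt : Module.supportDim R ((M ⧸ N) ⧸ LinearMap.range (s • (LinearMap.id : (M ⧸ N) →ₗ[R] M ⧸ N))) < n := by
    refine lt_of_le_of_lt (supportDim_le_of_annihilated (p ⊔ Ideal.span {s}) fun c hc x => ?_) ?_
    · obtain ⟨x, rfl⟩ := Submodule.Quotient.mk_surjective _ x
      obtain ⟨c₁, h₁, c₂, h₂, rfl⟩ := Submodule.mem_sup.1 hc
      obtain ⟨d, rfl⟩ := Ideal.mem_span_singleton.1 h₂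
      rw [add_smul, mul_comm s d, mul_smul]
      refine (congrArg₂ (· + ·) ?_ ((congrArg (d • ·) (smul_mem_range_smul s (M ⧸ N) _)).trans
        (smul_zero d))).trans (add_zero 0)
      obtain ⟨x, rfl⟩ := Submodule.Quotient.mk_surjective _ x
      rw [← Submodule.Quotient.mk_smul, ← Submodule.Quotient.mk_smul,
        (Submodule.Quotient.mk_eq_zero N).2 (Submodule.smul_mem_smul h₁ trivial), Submodule.Quotient.mk_zero]
    · refine lt_of_not_ge fun hge => ?_
      rw [ringKrullDim_quotient] at hge
      obtain ⟨l, hl⟩ := (Order.le_krullDim_iff (n := n)).1 hge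
      have hld : ringKrullDim (R ⧸ l.head.1.asIdeal) = n := by
        refine le_antisymm (hn ▸ DepthLib.ringKrullDim_quotient_le_supportDim (M := M) (p := l.head.1.asIdeal) (by
          rw [Module.support_eq_zeroLocus, PrimeSpectrum.mem_zeroLocus]
          exact fun x hx => l.head.2 (Ideal.mem_sup_left (hp hx)))) ?_
        rw [ringKrullDim_quotient]
        let l' : LTSeries (PrimeSpectrum.zeroLocus (R := R) (l.head.1.asIdeal : Set R)) :=
          ⟨l.length, fun i => ⟨(l i).1, show l.head.1.asIdeal ≤ (l i).1.asIdeal from l.head_le i⟩, fun i => l.step i⟩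
        exact le_of_eq_of_le (by rw [← hl]) (Order.LTSeries.length_le_krullDim l')
      exact hsp (le_of_le_of_coheight M hn hp (fun x hx => l.head.2 (Ideal.mem_sup_left hx)) hld
        (l.head.2 (Ideal.mem_sup_right (Ideal.mem_span_singleton_self s))))
  obtain ⟨w', rfl⟩ := smul_H_surjective (I := maximalIdeal R) hdim.le s hlt w
  obtain ⟨v, rfl⟩ := hmap_g_surjective (maximalIdeal R) N.injective_subtype N.mkQ_surjective
    (LinearMap.exact_subtype_mkQ N) n (subsingleton_of_supportDim_lt _ _ _
      (((Module.supportDim_le_of_injective _ N.injective_subtype).trans hn.le).trans_lt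
        (by exact_mod_cast n.lt_succ_self))) w'
  refine hw ?_
  have hv : s • v = 0 := by
    by_contra h
    obtain ⟨φ, hφ⟩ := exists_dual_ne_zero hf h
    exact hφ (by rw [map_smul]; exact LinearMap.congr_fun (Module.mem_annihilator.1 hs φ) v)
  exact ((hmap (maximalIdeal R) n N.mkQ).map_smul s v).symm.trans (by rw [hv, map_zero])

include hf in
/-- Associated primes and dimension of the dual of `H^n_m(M)`. -/
theorem associatedPrimes_dual_top (hn : Module.supportDim R M = n)
    [Module.Finite R (LocCoh.H (maximalIdeal R) n M →ₗ[R] E)] :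
    associatedPrimes R (LocCoh.H (maximalIdeal R) n M →ₗ[R] E) =
        {p | p ∈ associatedPrimes R M ∧ ringKrullDim (R ⧸ p) = n} ∧
      Module.supportDim R (LocCoh.H (maximalIdeal R) n M →ₗ[R] E) = n := by
  let D := LocCoh.H (maximalIdeal R) n M →ₗ[R] E
  have hle : Module.annihilator R M ≤ Module.annihilator R D := fun r hr => Module.mem_annihilator.2 fun φ =>
    LinearMap.ext fun z => by
      rw [LinearMap.smul_apply, ← map_smul, Module.mem_annihilator.1 (annihilator_le_annihilator_H M _ n hr), map_zero]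
      rfl
  have hmin : ∀ (p : Ideal R) [p.IsPrime], Module.annihilator R M ≤ p → ringKrullDim (R ⧸ p) = n →
      p ∈ associatedPrimes R D ∧ p ∈ associatedPrimes R M := by
    intro p _ hp hpd
    refine ⟨Module.associatedPrimes.minimalPrimes_annihilator_subset_associatedPrimes R D
      ⟨⟨inferInstance, mem_support_dual_top hf M hn p hp hpd⟩, fun q hq hqp => ?_⟩,
      Module.associatedPrimes.minimalPrimes_annihilator_subset_associatedPrimes R M ⟨⟨inferInstance, hp⟩, fun q hq hqp => ?_⟩⟩
    · haveI := hq.1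
      exact le_of_le_of_coheight M hn (hle.trans hq.2) hqp hpd
    · haveI := hq.1
      exact le_of_le_of_coheight M hn hq.2 hqp hpd
  refine ⟨Set.ext fun p => ⟨fun hp => ?_, fun ⟨hp, hpd⟩ => ?_⟩, le_antisymm ?_ ?_⟩
  · haveI := hp.isPrime
    obtain ⟨h1, h2⟩ := associatedPrime_dual_top M hn _ hp
    exact ⟨(hmin p h1 h2).2, h2⟩
  · haveI := hp.isPrime
    exact (hmin p (Submodule.annihilator_top.ge.trans (IsAssociatedPrime.annihilator_le hp)) hpd).1
  · rw [← hn, Module.supportDim_eq_ringKrullDim_quotient_annihilator (R := R) (M := M)]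
    exact supportDim_le_of_annihilated _ fun a ha x => Module.mem_annihilator.1 (hle ha) x
  · have hd := hn
    rw [Module.supportDim_eq_ringKrullDim_quotient_annihilator] at hd
    obtain ⟨p, hp, hpm, hpd⟩ := exists_minimal_prime_coheight _ hd
    rw [← hpd]
    refine DepthLib.ringKrullDim_quotient_le_supportDim ?_
    rw [Module.support_eq_zeroLocus, PrimeSpectrum.mem_zeroLocus]
    exact mem_support_dual_top hf M hn p hpm.1.2 hpd

end Groth.Agent.CanonModLib
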